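import Mathlib
import Cfsg.Agent.Lib.HallHigman.Unipotent
import Cfsg.Agent.Lib.HallHigman.TheoremB
import Cfsg.Agent.Lib.PGroup.SCN

/-!
Elements with a small moved part on an abelian group of order prime to `p`.

If `s` is a `p`-element, `y = s ^ (p ^ (m - 1))` has order `p` and `|V| ≤ (p ^ m - 1) ^ 2 |C_V(y)|`, then `⟨s⟩`
is irreducible on `[V, y]`, and `y` centralizes every abelian subgroup of the `p`-group normalised by `s`.
-/

set_option autoImplicit false
set_option linter.style.haveILetI false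

namespace Cfsg.Agent.PLengthExp

open Finset

variable {p : ℕ} [hp : Fact p.Prime]

/-- A nontrivial `p`-subgroup normalised by a `p`-element contains an element of order `p` fixed by it. -/
theorem exists_fixed_in {M : Type*} [Group M] [Finite M] {s : M} {m : ℕ} (hs : s ^ p ^ m = 1)
    (H : Subgroup M) (hH : IsPGroup p H) (hHs : ∀ h ∈ H, s * h * s⁻¹ ∈ H) (hne : H ≠ ⊥) :
    ∃ c ∈ H, c ≠ 1 ∧ c ^ p = 1 ∧ s * c = c * s := by
  have hsP : IsPGroup p (Subgroup.zpowers s) := by
    intro x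
    refine ⟨m, Subtype.ext ?_⟩
    obtain ⟨i, hi⟩ := Subgroup.mem_zpowers_iff.1 x.2
    push_cast
    rw [← hi, ← zpow_natCast, ← zpow_mul, mul_comm, zpow_mul, zpow_natCast, hs, one_zpow]
  have hsN : Subgroup.zpowers s ≤ Subgroup.normalizer (H : Set M) := Subgroup.zpowers_le.2 (by
    refine Subgroup.mem_normalizer_iff_map_conj_eq.2 (Subgroup.eq_of_le_of_card_ge ?_ ?_)
    · rintro _ ⟨h, hh, rfl⟩
      exact hHs h hh
    · exact (Subgroup.card_map_of_injective (MulAut.conj s).injective).ge)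
  haveI : Nontrivial H := (Subgroup.nontrivial_iff_ne_bot _).2 hne
  letI : MulAction (Subgroup.zpowers s) H := MulAction.compHom _
    (H.normalizerMonoidHom.comp (Subgroup.inclusion hsN))
  have h1 : (1 : H) ∈ MulAction.fixedPoints (Subgroup.zpowers s) H := fun a =>
    (map_one (H.normalizerMonoidHom ⟨(a : M), hsN a.2⟩))
  obtain ⟨n, hn0, hn⟩ := hH.nontrivial_iff_card.1 inferInstance
  obtain ⟨b, hb, hb1⟩ := hsP.exists_fixed_point_of_prime_dvd_card_of_fixed_point H
    (hn ▸ dvd_pow_self p hn0.ne') h1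
  obtain ⟨k, hk⟩ := IsPGroup.iff_orderOf.1 hH b
  obtain ⟨j, rfl⟩ : ∃ j, k = j + 1 := ⟨k - 1, by
    rcases Nat.eq_zero_or_pos k with rfl | h
    · rw [pow_zero, orderOf_eq_one_iff] at hk
      exact absurd hk.symm hb1
    · omega⟩
  refine ⟨((b ^ p ^ j : H) : M), (b ^ p ^ j).2, fun e => ?_, ?_, ?_⟩
  · have := orderOf_dvd_of_pow_eq_one (show b ^ p ^ j = 1 from Subtype.ext e)
    rw [hk] at this
    exact absurd (Nat.le_of_dvd (pow_pos hp.out.pos _) this)
      (not_le.2 (Nat.pow_lt_pow_right hp.out.one_lt (by omega)))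
  · rw [← SubgroupClass.coe_pow, ← pow_mul, ← pow_succ, ← hk, pow_orderOf_eq_one]
    rfl
  · have h2 : s * (b : M) * s⁻¹ = b := congrArg Subtype.val (hb ⟨s, Subgroup.mem_zpowers s⟩)
    have h3 : Commute s (b : M) := mul_inv_eq_iff_eq_mul.1 h2
    rw [SubgroupClass.coe_pow]
    exact (h3.pow_right _).eq

variable {V : Type*} [CommGroup V] [Finite V]

/-- The fixed subgroup of an automorphism. -/
def fixed (g : MulAut V) : Subgroup V where
  carrier := {v | g v = v}
  one_mem' := map_one g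
  mul_mem' := fun {a b} (ha : g a = a) (hb : g b = b) => show g (a * b) = a * b by rw [map_mul, ha, hb]
  inv_mem' := fun {a} (ha : g a = a) => show g a⁻¹ = a⁻¹ by rw [map_inv, ha]

omit [Finite V] in
@[simp] theorem mem_fixed {g : MulAut V} {v : V} : v ∈ fixed g ↔ g v = v := Iff.rfl

/-- `[V, g]`. -/
def moved (g : MulAut V) : Subgroup V :=
  (g.toMonoidHom / MonoidHom.id V).range

omit [Finite V] in
theorem mem_moved {g : MulAut V} {v : V} : v ∈ moved g ↔ ∃ w, g w / w = v := Iff.rfl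

omit [Finite V] in
theorem card_moved_mul_card_fixed (g : MulAut V) :
    Nat.card (moved g) * Nat.card (fixed g) = Nat.card V := by
  have h : fixed g = (g.toMonoidHom / MonoidHom.id V).ker := by
    ext v
    rw [mem_fixed, MonoidHom.mem_ker, MonoidHom.div_apply, div_eq_one]
    rfl
  rw [h, moved, ← Subgroup.index_ker, Subgroup.index_mul_card]

omit [Finite V] in
theorem fixed_apply_mem {g h : MulAut V} (hgh : Commute g h) {v : V} (hv : v ∈ fixed g) :
    h v ∈ fixed g := by
  rw [mem_fixed] at hv ⊢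
  rw [← MulAut.mul_apply, hgh.eq, MulAut.mul_apply, hv]

omit [Finite V] in
theorem moved_apply_mem {g h : MulAut V} (hgh : Commute g h) {v : V} (hv : v ∈ moved g) :
    h v ∈ moved g := by
  obtain ⟨w, rfl⟩ := mem_moved.1 hv
  refine mem_moved.2 ⟨h w, ?_⟩
  rw [map_div, ← MulAut.mul_apply, hgh.eq, MulAut.mul_apply]

variable (hV : ∀ v : V, v ^ p = 1 → v = 1)
include hV

omit hp [Finite V] in
theorem moved_inf_fixed {g : MulAut V} (hg : g ^ p = 1) : moved g ⊓ fixed g = ⊥ := by
  rw [Subgroup.eq_bot_iff_forall]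
  rintro v ⟨hv, hvf⟩
  obtain ⟨w, rfl⟩ := mem_moved.1 hv
  have hk : ∀ k : ℕ, (g ^ k) w = w * (g w / w) ^ k := by
    intro k
    induction k with
    | zero => simp
    | succ k ih =>
      rw [pow_succ', MulAut.mul_apply, ih, map_mul, map_pow, show g (g w / w) = g w / w from hvf, pow_succ',
        ← mul_assoc, mul_div_cancel]
  have := hk p
  rw [hg, MulAut.one_apply, left_eq_mul] at this
  exact hV _ this

omit hp in
theorem moved_sup_fixed {g : MulAut V} (hg : g ^ p = 1) (v : V) :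
    ∃ a ∈ moved g, ∃ b ∈ fixed g, a * b = v := by
  have h : moved g ⊔ fixed g = ⊤ := by
    refine Subgroup.eq_top_of_le_card _ ?_
    rw [← card_moved_mul_card_fixed g, ← Nat.card_prod]
    refine Nat.card_le_card_of_injective (fun x => (⟨x.1.1 * x.2.1, Subgroup.mul_mem_sup x.1.2 x.2.2⟩ :
      ↥(moved g ⊔ fixed g))) fun x y e => ?_
    have e' : x.1.1 * x.2.1 = y.1.1 * y.2.1 := congrArg Subtype.val e
    have h1 : x.1.1 / y.1.1 = y.2.1 / x.2.1 := div_eq_div_iff_mul_eq_mul.2 (e'.trans (mul_comm _ _))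
    have h2 : x.1.1 / y.1.1 ∈ moved g ⊓ fixed g :=
      Subgroup.mem_inf.2 ⟨div_mem x.1.2 y.1.2, h1 ▸ div_mem y.2.2 x.2.2⟩
    rw [moved_inf_fixed hV hg, Subgroup.mem_bot, div_eq_one] at h2
    exact Prod.ext (Subtype.ext h2) (Subtype.ext (mul_left_cancel (h2 ▸ e' : y.1.1 * x.2.1 = y.1.1 * y.2.1)))
  exact Subgroup.mem_sup.1 (h ▸ Subgroup.mem_top v)

variable {s y : MulAut V} {m : ℕ} (hm : 1 ≤ m) (hys : y = s ^ p ^ (m - 1)) (hy : y ^ p = 1)
include hm hys hy

/-- `⟨s⟩` is semiregular on the nonidentity elements of `[V, y]`. -/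
theorem dvd_card_sub_one {N : Subgroup V} (hN : N ≤ moved y) (hNs : ∀ v ∈ N, s v ∈ N) :
    p ^ m ∣ Nat.card N - 1 := by
  classical
  rcases eq_or_ne N ⊥ with rfl | hN1
  · simp
  have hs : s ^ p ^ m = 1 := by
    rw [← Nat.sub_add_cancel hm, pow_succ, pow_mul, ← hys, hy]
  let ι : Subgroup (MulAut V) :=
    { carrier := {g | ∀ v, g v ∈ N ↔ v ∈ N}
      one_mem' := fun v => Iff.rfl
      mul_mem' := fun {a b} ha hb v => (ha (b v)).trans (hb v)
      inv_mem' := fun {a} ha v => by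
        have := ha (a⁻¹ v)
        rwa [MulAut.apply_inv_self, iff_comm] at this }
  have hsι : Subgroup.zpowers s ≤ ι := Subgroup.zpowers_le.2 fun v => ⟨fun h => by
    obtain ⟨w, hw⟩ := (Finite.injective_iff_surjective (f := fun w : N => (⟨s w, hNs w w.2⟩ : N))).1
      (fun a b e => Subtype.ext (s.injective (congrArg Subtype.val e))) ⟨s v, h⟩
    exact s.injective (congrArg Subtype.val hw) ▸ w.2, hNs v⟩
  letI : MulAction (Subgroup.zpowers s) N :=
    { smul := fun a v => ⟨(a : MulAut V) v, (hsι a.2 v).2 v.2⟩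
      one_smul := fun v => Subtype.ext rfl
      mul_smul := fun a b v => Subtype.ext rfl }
  obtain ⟨v₀, hv₀, hv₀1⟩ := (Subgroup.bot_or_exists_ne_one N).resolve_left hN1
  have hfree : ∀ k, 0 < k → k < p ^ m → ∀ v ∈ N, (s ^ k) v = v → v = 1 := by
    intro k hk0 hkm v hv e
    let St : Subgroup (MulAut V) :=
      { carrier := {g | g v = v}
        one_mem' := rfl
        mul_mem' := fun {a b} (ha : a v = v) (hb : b v = v) => show a (b v) = v by rw [hb, ha]
        inv_mem' := fun {a} (ha : a v = v) => show a⁻¹ v = v by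
          nth_rewrite 1 [← ha]
          rw [MulAut.inv_apply_self] }
    have h1 : y ∈ St := hys ▸ HallHigman.pow_pred_mem hp.out hs St e hk0 hkm
    exact (Subgroup.eq_bot_iff_forall _).1 (moved_inf_fixed hV hy) v ⟨hN hv, h1⟩
  have hord : orderOf s = p ^ m := by
    refine le_antisymm (orderOf_le_of_pow_eq_one (pow_pos hp.out.pos m) hs) (not_lt.1 fun hlt => hv₀1 ?_)
    exact hfree _ (orderOf_pos s) hlt v₀ hv₀ (by rw [pow_orderOf_eq_one]; rfl)
  have := HallHigman.card_orbits_of_free (A := Subgroup.zpowers s) (X := N)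
    (r := p ^ m) (by rw [Nat.card_zpowers, hord]) (1 : N) (fun a => Subtype.ext (map_one (a : MulAut V)))
    (fun v hv a ha => by
      obtain ⟨k, hk⟩ := mem_powers_iff_mem_zpowers.2 a.2
      simp only at hk
      by_contra ha1
      refine hv (Subtype.ext (hfree (k % p ^ m) (Nat.pos_of_ne_zero fun e => ha1 (Subtype.ext ?_))
        (Nat.mod_lt _ (pow_pos hp.out.pos m)) v v.2 ?_))
      · rw [← hk, ← pow_mod_orderOf, hord, e, pow_zero]; rfl
      · rw [← hord, pow_mod_orderOf, hk]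
        exact congrArg Subtype.val ha)
  exact ⟨Nat.card (MulAction.orbitRel.Quotient (Subgroup.zpowers s) N) - 1, by
    rw [Nat.mul_sub, mul_one]
    omega⟩

variable (hbound : Nat.card V ≤ (p ^ m - 1) ^ 2 * Nat.card (fixed y))
include hbound

/-- `⟨s⟩` is irreducible on `[V, y]`. -/
theorem eq_moved_of_invariant {N : Subgroup V} (hN : N ≤ moved y) (hNs : ∀ v ∈ N, s v ∈ N)
    (hN1 : N ≠ ⊥) : N = moved y := by
  have hMs : ∀ v ∈ moved y, s v ∈ moved y := fun v hv =>
    moved_apply_mem (hys ▸ Commute.pow_self s _ : Commute y s) hv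
  have h1 := dvd_card_sub_one hV hm hys hy hN hNs
  have h2 := dvd_card_sub_one hV hm hys hy le_rfl hMs
  obtain ⟨d, hd⟩ := Subgroup.card_dvd_of_le hN
  have hM : Nat.card (moved y) ≤ (p ^ m - 1) ^ 2 := by
    rw [← card_moved_mul_card_fixed y] at hbound
    exact Nat.le_of_mul_le_mul_right hbound Nat.card_pos
  have hN2 : 2 ≤ Nat.card N := Nat.succ_le_of_lt ((Subgroup.one_lt_card_iff_ne_bot _).2 hN1)
  refine Subgroup.eq_of_le_of_card_ge hN ?_
  rcases Nat.lt_or_ge d 2 with hd2 | hd2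
  · rw [hd]
    calc Nat.card N * d ≤ Nat.card N * 1 := Nat.mul_le_mul_left _ (by omega)
      _ = _ := mul_one _
  exfalso
  have h3 : p ^ m ∣ Nat.card N * (d - 1) := by
    have := Nat.dvd_sub h2 h1
    rw [hd, show Nat.card N * d - 1 - (Nat.card N - 1) = Nat.card N * (d - 1) by
      rw [Nat.mul_sub, mul_one]; omega] at this
    exact this
  have h4 : Nat.Coprime (p ^ m) (Nat.card N) := by
    refine Nat.coprime_of_dvd fun q hq hqa hqb => ?_
    have := Nat.dvd_sub hqb (hqa.trans h1)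
    rw [show Nat.card N - (Nat.card N - 1) = 1 by omega] at this
    exact hq.ne_one (Nat.dvd_one.1 this)
  have h5 := Nat.le_of_dvd (by omega) (h4.dvd_of_dvd_mul_left h3)
  have h6 := Nat.le_of_dvd (by omega) h1
  have h7 : (p ^ m + 1) * (p ^ m + 1) ≤ Nat.card N * d := Nat.mul_le_mul (by omega) (by omega)
  have h8 : (p ^ m - 1) ^ 2 < (p ^ m + 1) * (p ^ m + 1) := by
    rw [pow_two]
    exact Nat.mul_lt_mul_of_lt_of_lt (by omega) (by omega)
  rw [hd] at hM
  omega

/-- What commutes with `s` and has order dividing `p` is a power of `y` on `[V, y]`. -/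
theorem exists_eq_pow_on_moved {c : MulAut V} (hc : c ^ p = 1) (hcs : Commute c s) :
    ∃ i : ℕ, ∀ v ∈ moved y, c v = (y ^ i) v := by
  classical
  have hcy : Commute c y := hys ▸ hcs.pow_right _
  by_contra hno
  push Not at hno
  have key : ∀ i : ℕ, ∀ v ∈ moved y, (c * y ^ i) v = v → v = 1 := by
    intro i v hv hfix
    by_contra hv1
    have hs' : Commute (c * y ^ i) s := hcs.mul_left ((hys ▸ Commute.pow_self s _ : Commute y s).pow_left i)
    have hN := eq_moved_of_invariant hV hm hys hy hbound (N := moved y ⊓ fixed (c * y ^ i)) inf_le_left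
      (fun w hw => ⟨moved_apply_mem (hys ▸ Commute.pow_self s _ : Commute y s) hw.1, fixed_apply_mem hs' hw.2⟩)
      (fun e => hv1 ((Subgroup.eq_bot_iff_forall _).1 e v ⟨hv, hfix⟩))
    obtain ⟨w, hw, hne⟩ := hno (i * (p - 1))
    refine hne ?_
    have h1 : (c * y ^ i) w = w := (hN.ge hw).2
    have h2 : c * y ^ i = y ^ i * c := (hcy.pow_right i).eq
    rw [h2] at h1
    have h3 : (y ^ (i * (p - 1))) ((y ^ i * c) w) = c w := by
      rw [← MulAut.mul_apply, ← mul_assoc, ← pow_add,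
        show i * (p - 1) + i = p * i by rw [← Nat.mul_add_one, Nat.sub_add_cancel hp.out.one_le, mul_comm],
        pow_mul, hy, one_pow, one_mul]
    rw [h1] at h3
    exact h3.symm
  -- the norms
  obtain ⟨w, hw, -⟩ := hno 0
  have hMmem : ∀ (g : MulAut V), Commute y g → ∀ u ∈ moved y, g u ∈ moved y := fun g hg u hu =>
    moved_apply_mem hg hu
  have hnorm : ∀ (g : MulAut V), g ^ p = 1 → ∀ u : V, g (∏ l ∈ range p, (g ^ l) u) = ∏ l ∈ range p, (g ^ l) u := by
    intro g hg u
    rw [map_prod]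
    have h1 := Finset.prod_range_succ' (fun l => (g ^ l) u) p
    rw [Finset.prod_range_succ, hg] at h1
    simp only [pow_zero] at h1
    rw [mul_right_cancel h1]
    exact Finset.prod_congr rfl fun l _ => by rw [pow_succ', MulAut.mul_apply]
  have hall : ∀ v ∈ moved y, v = 1 := by
    intro v hv
    refine hV v ?_
    have h1 : ∀ i : ℕ, ∏ l ∈ range p, ((c * y ^ i) ^ l) v = 1 := fun i => key i _
      (prod_mem fun l _ => hMmem _ (Commute.pow_right ((Commute.mul_right hcy.symm (Commute.self_pow y i))) l) v hv)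
      (hnorm _ (by rw [(hcy.pow_right i).mul_pow, hc, ← pow_mul, mul_comm, pow_mul, hy, one_pow, one_mul]) v)
    have h2 : ∏ i ∈ range p, ∏ l ∈ range p, ((c * y ^ i) ^ l) v = 1 := Finset.prod_eq_one fun i _ => h1 i
    rw [Finset.prod_comm, Finset.prod_eq_single 0] at h2
    · simpa using h2
    · intro l hl hl0
      have hcl : ∀ i, ((c * y ^ i) ^ l) v = (c ^ l) ((y ^ (l * i)) v) := fun i => by
        rw [(hcy.pow_right i).mul_pow, ← pow_mul, mul_comm i, MulAut.mul_apply]
      simp only [hcl, ← map_prod]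
      have hyl : (y ^ l) ^ p = 1 := by rw [← pow_mul, mul_comm, pow_mul, hy, one_pow]
      have hfix := hnorm _ hyl v
      simp only [← pow_mul] at hfix
      have hmem : (∏ i ∈ range p, (y ^ (l * i)) v) ∈ moved y :=
        prod_mem fun i _ => hMmem _ (Commute.self_pow y _) v hv
      have hyfix : y (∏ i ∈ range p, (y ^ (l * i)) v) = ∏ i ∈ range p, (y ^ (l * i)) v := by
        set u := ∏ i ∈ range p, (y ^ (l * i)) v with hu
        let St : Subgroup (MulAut V) :=
          { carrier := {g | g u = u}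
            one_mem' := rfl
            mul_mem' := fun {a b} (ha : a u = u) (hb : b u = u) => show a (b u) = u by rw [hb, ha]
            inv_mem' := fun {a} (ha : a u = u) => show a⁻¹ u = u by
              nth_rewrite 1 [← ha]
              rw [MulAut.inv_apply_self] }
        have := HallHigman.pow_pred_mem (n := 1) hp.out (by rwa [pow_one]) St (σ := y) (k := l) hfix
          (Nat.pos_of_ne_zero hl0) (by rw [pow_one]; exact Finset.mem_range.1 hl)
        rwa [Nat.sub_self, pow_zero, pow_one] at this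
      rw [(Subgroup.eq_bot_iff_forall _).1 (moved_inf_fixed hV hy) _ ⟨hmem, hyfix⟩, map_one]
    · intro h
      exact absurd (Finset.mem_range.2 hp.out.pos) h
  obtain ⟨w, hw, hne⟩ := hno 0
  exact hne (by rw [hall w hw, map_one, map_one])

/-- `y` centralizes every abelian `p`-group of automorphisms normalised by `s`. -/
theorem commute_of_abelian (hp2 : p ≠ 2) (A : Subgroup (MulAut V)) (hA : IsPGroup p A)
    (hAc : IsMulCommutative A) (hAs : ∀ a ∈ A, s * a * s⁻¹ ∈ A) {a : MulAut V} (ha : a ∈ A) :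
    a * y = y * a := by
  classical
  have hs : s ^ p ^ m = 1 := by
    rw [← Nat.sub_add_cancel hm, pow_succ, pow_mul, ← hys, hy]
  have hcomm : ∀ x ∈ A, ∀ z ∈ A, x * z = z * x := fun x hx z hz =>
    congrArg Subtype.val (hAc.is_comm.comm ⟨x, hx⟩ ⟨z, hz⟩)
  have hys' : Commute s y := hys ▸ Commute.self_pow s _
  have hAk : ∀ k : ℕ, ∀ x ∈ A, s ^ k * x * (s ^ k)⁻¹ ∈ A := by
    intro k
    induction k with
    | zero => intro x hx; simpa using hx
    | succ k ih =>
      intro x hx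
      rw [pow_succ', mul_inv_rev, show s * s ^ k * x * ((s ^ k)⁻¹ * s⁻¹) = s * (s ^ k * x * (s ^ k)⁻¹) * s⁻¹ by group]
      exact hAs _ (ih x hx)
  have hAy : ∀ x ∈ A, y * x * y⁻¹ ∈ A := hys ▸ hAk _
  let φ : A →* MulAut V :=
    { toFun := fun x => (x : MulAut V) * (y * (x : MulAut V)⁻¹ * y⁻¹)
      map_one' := by simp
      map_mul' := fun x z => by
        push_cast
        have h1 := hcomm _ z.2 _ (hAy _ (inv_mem x.2))
        rw [mul_inv_rev, show y * ((z : MulAut V)⁻¹ * (x : MulAut V)⁻¹) * y⁻¹ =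
          (y * (z : MulAut V)⁻¹ * y⁻¹) * (y * (x : MulAut V)⁻¹ * y⁻¹) by group]
        have h2 := hcomm _ (mul_mem z.2 (hAy _ (inv_mem z.2))) _ (hAy _ (inv_mem x.2))
        calc (x : MulAut V) * z * ((y * (z : MulAut V)⁻¹ * y⁻¹) * (y * (x : MulAut V)⁻¹ * y⁻¹))
            = x * (z * (y * (z : MulAut V)⁻¹ * y⁻¹) * (y * (x : MulAut V)⁻¹ * y⁻¹)) := by group
          _ = x * ((y * (x : MulAut V)⁻¹ * y⁻¹) * (z * (y * (z : MulAut V)⁻¹ * y⁻¹))) := by rw [h2]
          _ = _ := by group }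
  have hφA : φ.range ≤ A := by
    rintro _ ⟨x, rfl⟩
    exact mul_mem x.2 (hAy _ (inv_mem x.2))
  by_contra hay
  have hne : φ.range ≠ ⊥ := fun e => hay (by
    have h1 : a * (y * a⁻¹ * y⁻¹) = 1 := Subgroup.mem_bot.1 (e.le ⟨⟨a, ha⟩, rfl⟩)
    calc a * y = a * (y * a⁻¹ * y⁻¹) * (y * a) := by group
      _ = y * a := by rw [h1, one_mul])
  obtain ⟨c, ⟨⟨a₀, ha₀⟩, rfl⟩, hc1, hcp, hcs⟩ := exists_fixed_in hs φ.range (hA.to_le hφA)
    (by
      rintro _ ⟨x, rfl⟩
      refine ⟨⟨_, hAs _ x.2⟩, ?_⟩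
      show s * x * s⁻¹ * (y * (s * x * s⁻¹)⁻¹ * y⁻¹) = s * (x * (y * (x : MulAut V)⁻¹ * y⁻¹)) * s⁻¹
      calc s * x * s⁻¹ * (y * (s * x * s⁻¹)⁻¹ * y⁻¹) = s * x * (s⁻¹ * y) * (s * (x : MulAut V)⁻¹ * (s⁻¹ * y⁻¹)) := by
            group
        _ = s * x * (y * s⁻¹) * (s * (x : MulAut V)⁻¹ * (y⁻¹ * s⁻¹)) := by
            rw [hys'.inv_left.eq, hys'.inv_inv.eq]
        _ = _ := by group) hne
  set c := φ ⟨a₀, ha₀⟩ with hc
  have hcy : Commute c y := hys ▸ (show Commute c s from hcs.symm).pow_right _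
  have hca : a₀ * c = c * a₀ := hcomm _ ha₀ _ (hφA ⟨_, rfl⟩)
  have hconj1 : a₀ * y * a₀⁻¹ = c * y := by
    rw [hc]
    show _ = a₀ * (y * a₀⁻¹ * y⁻¹) * y
    group
  have hconjk : ∀ k : ℕ, a₀ ^ k * y * (a₀ ^ k)⁻¹ = c ^ k * y := by
    intro k
    induction k with
    | zero => simp
    | succ k ih =>
      rw [pow_succ' a₀, mul_inv_rev,
        show a₀ * a₀ ^ k * y * ((a₀ ^ k)⁻¹ * a₀⁻¹) = a₀ * (a₀ ^ k * y * (a₀ ^ k)⁻¹) * a₀⁻¹ by group, ih,
        show a₀ * (c ^ k * y) * a₀⁻¹ = a₀ * c ^ k * a₀⁻¹ * (a₀ * y * a₀⁻¹) by group, hconj1,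
        (Commute.pow_right hca k).eq, mul_inv_cancel_right, ← mul_assoc, ← pow_succ]
  obtain ⟨i, hi⟩ := exists_eq_pow_on_moved hV hm hys hy hbound hcp hcs.symm
  obtain ⟨j, hj0, hjp, hji⟩ : ∃ j, 0 < j ∧ j < p ∧ ¬ p ∣ j * i + 1 := by
    have := hp.out.two_le
    by_cases h : p ∣ i + 1
    · refine ⟨2, by omega, by omega, fun h2 => ?_⟩
      have := Nat.dvd_sub (h.mul_left 2) h2
      rw [show 2 * (i + 1) - (2 * i + 1) = 1 by omega] at this
      exact hp.out.ne_one (Nat.dvd_one.1 this)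
    · exact ⟨1, by omega, by omega, by rwa [one_mul]⟩
  have hcj : ∀ v ∈ moved y, (c ^ j * y) v = (y ^ (j * i + 1)) v := by
    intro v hv
    have hk : ∀ k : ℕ, ∀ u ∈ moved y, (c ^ k) u = (y ^ (k * i)) u := by
      intro k
      induction k with
      | zero => intro u _; simp
      | succ k ih =>
        intro u hu
        rw [pow_succ, MulAut.mul_apply, hi u hu, ih _ (moved_apply_mem (Commute.self_pow y i) hu),
          ← MulAut.mul_apply, ← pow_add, Nat.succ_mul]
    rw [MulAut.mul_apply, hk j _ (moved_apply_mem (Commute.refl y) hv), ← MulAut.mul_apply, ← pow_succ]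
  have hle : fixed (c ^ j * y) ≤ fixed y ⊓ fixed (c ^ j) := by
    intro v hv
    obtain ⟨u, hu, f, hf, rfl⟩ := moved_sup_fixed hV hy v
    rw [mem_fixed, map_mul] at hv
    have hgy : Commute y (c ^ j * y) := (hcy.symm.pow_right j).mul_right (Commute.refl y)
    have h1 : (c ^ j * y) u ∈ moved y := moved_apply_mem hgy hu
    have h2 : (c ^ j * y) f ∈ fixed y := fixed_apply_mem hgy hf
    have h3 : (c ^ j * y) u / u = f / (c ^ j * y) f :=
      div_eq_div_iff_mul_eq_mul.2 (hv.trans (mul_comm _ _))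
    have h4 := (Subgroup.eq_bot_iff_forall _).1 (moved_inf_fixed hV hy) ((c ^ j * y) u / u)
      (Subgroup.mem_inf.2 ⟨div_mem h1 hu, h3 ▸ div_mem hf h2⟩)
    have hu1 : u = 1 := by
      rw [div_eq_one, hcj u hu] at h4
      let St : Subgroup (MulAut V) :=
        { carrier := {g | g u = u}
          one_mem' := rfl
          mul_mem' := fun {a b} (ha : a u = u) (hb : b u = u) => show a (b u) = u by rw [hb, ha]
          inv_mem' := fun {a} (ha : a u = u) => show a⁻¹ u = u by
            nth_rewrite 1 [← ha]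
            rw [MulAut.inv_apply_self] }
      have hm' : (j * i + 1) % p ≠ 0 := fun e => hji (Nat.dvd_of_mod_eq_zero e)
      have h5 : y ^ ((j * i + 1) % p) ∈ St := by
        show (y ^ ((j * i + 1) % p)) u = u
        rw [← pow_eq_pow_mod _ hy]
        exact h4
      have := HallHigman.pow_pred_mem (n := 1) hp.out (by rwa [pow_one]) St (σ := y) h5
        (Nat.pos_of_ne_zero hm') (by rw [pow_one]; exact Nat.mod_lt _ hp.out.pos)
      rw [Nat.sub_self, pow_zero, pow_one] at this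
      exact (Subgroup.eq_bot_iff_forall _).1 (moved_inf_fixed hV hy) u ⟨hu, this⟩
    subst hu1
    rw [map_one, one_mul, one_mul] at hv
    rw [one_mul]
    refine Subgroup.mem_inf.2 ⟨hf, mem_fixed.2 ?_⟩
    rw [MulAut.mul_apply, show y f = f from hf] at hv
    exact hv
  have hcard : Nat.card (fixed (c ^ j * y)) = Nat.card (fixed y) := by
    rw [← hconjk j]
    refine Nat.card_congr ((a₀ ^ j).symm.toEquiv.subtypeEquiv fun v => ?_)
    show (a₀ ^ j * y * (a₀ ^ j)⁻¹) v = v ↔ y ((a₀ ^ j)⁻¹ v) = (a₀ ^ j)⁻¹ v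
    rw [MulAut.mul_apply, MulAut.mul_apply]
    constructor
    · intro h
      nth_rewrite 2 [← h]
      rw [MulAut.inv_apply_self]
    · intro h
      rw [h, MulAut.apply_inv_self]
  have heq : fixed y ≤ fixed (c ^ j) :=
    (Subgroup.eq_of_le_of_card_ge (hle.trans inf_le_left) hcard.ge).ge.trans (hle.trans inf_le_right)
  have hcF : fixed y ≤ fixed c := by
    intro f hf
    let St : Subgroup (MulAut V) :=
      { carrier := {g | g f = f}
        one_mem' := rfl
        mul_mem' := fun {a b} (ha : a f = f) (hb : b f = f) => show a (b f) = f by rw [hb, ha]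
        inv_mem' := fun {a} (ha : a f = f) => show a⁻¹ f = f by
          nth_rewrite 1 [← ha]
          rw [MulAut.inv_apply_self] }
    have := HallHigman.pow_pred_mem (n := 1) hp.out (by rwa [pow_one]) St (σ := c) (k := j) (heq hf) hj0
      (by rwa [pow_one])
    rwa [Nat.sub_self, pow_zero, pow_one] at this
  have hcpow : c = y ^ i := MulEquiv.ext fun v => by
    obtain ⟨u, hu, f, hf, rfl⟩ := moved_sup_fixed hV hy v
    rw [map_mul, map_mul, hi u hu, show c f = f from hcF hf]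
    congr 1
    have : ∀ k : ℕ, (y ^ k) f = f := by
      intro k
      induction k with
      | zero => rfl
      | succ k ih => rw [pow_succ, MulAut.mul_apply, show y f = f from hf, ih]
    exact (this i).symm
  rcases Nat.eq_zero_or_pos (i % p) with h0 | h0
  · refine hc1 ?_
    rw [hcpow, pow_eq_pow_mod i hy, h0, pow_zero]
  · have hyA : y ∈ A := by
      have := HallHigman.pow_pred_mem (n := 1) hp.out (by rwa [pow_one]) A (σ := y) (k := i % p)
        (by rw [← pow_eq_pow_mod i hy, ← hcpow]; exact hφA ⟨_, rfl⟩) h0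
        (by rw [pow_one]; exact Nat.mod_lt _ hp.out.pos)
      rwa [Nat.sub_self, pow_zero, pow_one] at this
    refine hc1 ?_
    have := hcomm _ ha₀ _ hyA
    show a₀ * (y * a₀⁻¹ * y⁻¹) = 1
    rw [← mul_assoc, ← mul_assoc, this]
    group



end Cfsg.Agent.PLengthExp
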