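import Mathlib
import Cfsg.Agent.Lib.PGroup.Class2
import Cfsg.Agent.Lib.HallHigman.Unipotent
import Cfsg.Agent.Lib.HallHigman.TheoremB

/-!
Class two groups with scalar centre and a unipotent operator inducing an automorphism.

`card_quotient_le_mul_card_orbits`: `|Q / Z| ≤ d · #orbits` when `(dim W) ^ 2 ≤ d · dim C(S)`;
`card_quotient_le_sq_mul_fixed`: hence `|Q / Z| ≤ (p ^ m - 1) ^ 2 |C(y)|`, `y = σ ^ (p ^ (m - 1))`.
-/

set_option autoImplicit false
set_option linter.style.haveILetI false

namespace Cfsg.Agent.PLengthExp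

open Finset
open scoped commutatorElement

variable {K W Q : Type*} [Field K] [AddCommGroup W] [Module K W] [FiniteDimensional K W] [Group Q] [Finite Q]

/-- The action of the automorphism group on the central quotient. -/
noncomputable def centralQuotientAut (Q : Type*) [Group Q] : MulAut Q →* MulAut (Q ⧸ Subgroup.center Q) where
  toFun σ := QuotientGroup.congr (Subgroup.center Q) (Subgroup.center Q) σ
    (Subgroup.characteristic_iff_map_eq.1 inferInstance σ)
  map_one' := MulEquiv.ext fun x => by induction x using QuotientGroup.induction_on; rfl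
  map_mul' a b := MulEquiv.ext fun x => by induction x using QuotientGroup.induction_on; rfl

omit [Finite Q] in
theorem centralQuotientAut_mk (σ : MulAut Q) (g : Q) :
    centralQuotientAut Q σ (g : Q ⧸ Subgroup.center Q) = ((σ g : Q) : Q ⧸ Subgroup.center Q) := rfl

/-- An operator inducing `σ` has commutant of dimension at most the number of orbits of `σ` on `Q / Z` times
that of the commutant of `Q`; and `End W` has dimension at least `|Q / Z|` times the latter. -/
theorem card_quotient_le_mul_card_orbits [Nontrivial W] (π : Q →* Module.End K W) (hπ : Function.Injective π)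
    (hQK : (Nat.card Q : K) ≠ 0) (hcl : ∀ a b : Q, ⁅a, b⁆ ∈ Subgroup.center Q)
    (hsc : ∀ z ∈ Subgroup.center Q, ∃ c : K, π z = c • 1)
    (σ : MulAut Q) (S : Module.End K W) (hSu : IsUnit S) (hSπ : ∀ g, S * π g = π (σ g) * S)
    {d : ℕ} (hcomm : Module.finrank K W ^ 2 ≤ d * Module.finrank K (HallHigman.commutant S)) :
    Nat.card (Q ⧸ Subgroup.center Q) ≤ d * Nat.card
      (MulAction.orbitRel.Quotient (Subgroup.zpowers (centralQuotientAut Q σ)) (Q ⧸ Subgroup.center Q)) := by
  classical
  have := Fintype.ofFinite Q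
  choose a ha using hsc
  have hinj : ∀ c c' : K, c • (1 : Module.End K W) = c' • 1 → c = c' := fun c c' e => smul_left_injective K
    (one_ne_zero : (1 : Module.End K W) ≠ 0) e
  let lam : Subgroup.center Q →* K :=
    { toFun := fun z => a z z.2
      map_one' := hinj _ _ (by rw [← ha, OneMemClass.coe_one, map_one, one_smul])
      map_mul' := fun x y => hinj _ _ (by rw [← ha, Subgroup.coe_mul, map_mul, ha _ x.2, ha _ y.2, smul_mul_smul_comm, one_mul]) }
  have hlam : ∀ z : Subgroup.center Q, π (z : Q) = lam z • 1 := fun z => ha z z.2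
  have hlinj : ∀ z : Subgroup.center Q, lam z = 1 → z = 1 := fun z hz => Subtype.ext (hπ (by
    rw [hlam, hz, one_smul, OneMemClass.coe_one, map_one]))
  have hσZ : ∀ z ∈ Subgroup.center Q, σ z = z := fun z hz => hπ (by
    have h1 := hSπ z
    rw [show π z = lam ⟨z, hz⟩ • 1 from hlam ⟨z, hz⟩, mul_smul_comm, mul_one, ← one_mul S, ← smul_mul_assoc] at h1
    rw [one_mul, ← hlam ⟨z, hz⟩] at h1
    exact (hSu.mul_right_cancel h1).symm)
  -- the characters
  let χ : Q → Q → K := fun g h => lam ⟨⁅h, g⁆, hcl h g⟩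
  have hχmul : ∀ g h k, χ g (h * k) = χ g h * χ g k := fun g h k => by
    simp only [χ, ← map_mul]
    congr 1
    exact Subtype.ext (Agent.PGroup.commutator_mul_left (hcl k g))
  have hχmul' : ∀ g g' h, χ (g * g') h = χ g h * χ g' h := fun g g' h => by
    simp only [χ, ← map_mul]
    congr 1
    exact Subtype.ext (Agent.PGroup.commutator_mul_right (hcl h g'))
  have hχ1 : ∀ g, χ g 1 = 1 := fun g => by
    simp only [χ, ← map_one lam]; congr 1; exact Subtype.ext (commutatorElement_one_left g)
  have hχne : ∀ g h, χ g h ≠ 0 := fun g h e => by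
    have : χ g (h * h⁻¹) = 0 := by rw [hχmul, e, zero_mul]
    rw [mul_inv_cancel, hχ1] at this
    exact one_ne_zero this
  have hχz : ∀ z ∈ (Subgroup.center Q), ∀ h, χ z h = 1 := fun z hz h => by
    simp only [χ, ← map_one lam]
    congr 1
    exact Subtype.ext (commutatorElement_eq_one_iff_mul_comm.2 (Subgroup.mem_center_iff.1 hz h))
  have hχz' : ∀ z ∈ (Subgroup.center Q), ∀ g, χ g z = 1 := fun z hz g => by
    simp only [χ, ← map_one lam]
    congr 1
    exact Subtype.ext (commutatorElement_eq_one_iff_mul_comm.2 (Subgroup.mem_center_iff.1 hz g).symm)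
  have hχσ : ∀ g h, χ (σ g) (σ h) = χ g h := fun g h => by
    simp only [χ]
    congr 1
    refine Subtype.ext ?_
    show ⁅σ h, σ g⁆ = ⁅h, g⁆
    rw [← map_commutatorElement, hσZ _ (hcl h g)]
  have hχtriv : ∀ g, (∀ h, χ g h = 1) → g ∈ (Subgroup.center Q) := fun g hg => Subgroup.mem_center_iff.2 fun h =>
    commutatorElement_eq_one_iff_mul_comm.1 (congrArg Subtype.val (hlinj ⟨⁅h, g⁆, hcl h g⟩ (hg h)))
  have hχtriv' : ∀ h, (∀ g, χ g h = 1) → h ∈ (Subgroup.center Q) := fun h hh => Subgroup.mem_center_iff.2 fun g =>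
    (commutatorElement_eq_one_iff_mul_comm.1 (congrArg Subtype.val (hlinj ⟨⁅h, g⁆, hcl h g⟩ (hh g)))).symm
  have hπu : ∀ g, π g * π g⁻¹ = 1 := fun g => by rw [← map_mul, mul_inv_cancel, map_one]
  have hπu' : ∀ g, π g⁻¹ * π g = 1 := fun g => by rw [← map_mul, inv_mul_cancel, map_one]
  have hconj : ∀ g h, π h * π g * π h⁻¹ = χ g h • π g := fun g h => by
    rw [← map_mul, ← map_mul, show h * g * h⁻¹ = ⁅h, g⁆ * g by group, map_mul]
    simp only [χ]
    rw [show π ⁅h, g⁆ = lam ⟨⁅h, g⁆, hcl h g⟩ • 1 from hlam ⟨_, hcl h g⟩, smul_mul_assoc, one_mul]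
  -- the centralizer of `π Q` and the projections
  let B : Submodule K (Module.End K W) :=
    { carrier := {f | ∀ k, π k * f * π k⁻¹ = f}
      zero_mem' := fun k => by simp
      add_mem' := fun {a b} ha hb k => by rw [mul_add, add_mul, ha, hb]
      smul_mem' := fun c a ha k => by rw [mul_smul_comm, smul_mul_assoc, ha] }
  let P : Q → Module.End K W →ₗ[K] Module.End K W := fun g =>
    ∑ h : Q, (χ g h)⁻¹ • ((LinearMap.mulLeft K (π h)) ∘ₗ (LinearMap.mulRight K (π h⁻¹)))
  have hP : ∀ g f, P g f = ∑ h : Q, (χ g h)⁻¹ • (π h * f * π h⁻¹) := fun g f => by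
    simp only [P, LinearMap.sum_apply, LinearMap.smul_apply, LinearMap.coe_comp, Function.comp_apply,
      LinearMap.mulLeft_apply, LinearMap.mulRight_apply, mul_assoc]
  have hPconj : ∀ g k f, π k * P g f * π k⁻¹ = χ g k • P g f := by
    intro g k f
    rw [hP, Finset.mul_sum, Finset.sum_mul, Finset.smul_sum]
    conv_rhs => rw [← Equiv.sum_comp (Equiv.mulLeft k)]
    refine Finset.sum_congr rfl fun h _ => ?_
    rw [mul_smul_comm, smul_mul_assoc, Equiv.coe_mulLeft, smul_smul, hχmul, mul_inv, ← mul_assoc (χ g k),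
      mul_inv_cancel₀ (hχne g k), one_mul, map_mul, mul_inv_rev, map_mul]
    simp only [mul_assoc]
  have hPB : ∀ g f, π g⁻¹ * P g f ∈ B := by
    intro g f k
    have h1 : χ g⁻¹ k * χ g k = 1 := by rw [← hχmul', inv_mul_cancel]; exact hχz 1 (one_mem _) k
    calc π k * (π g⁻¹ * P g f) * π k⁻¹ = (π k * π g⁻¹ * π k⁻¹) * (π k * P g f * π k⁻¹) := by
          simp only [mul_assoc]
          rw [← mul_assoc (π k⁻¹) (π k), hπu', one_mul]
      _ = (χ g⁻¹ k * χ g k) • (π g⁻¹ * P g f) := by
          rw [hconj, hPconj, smul_mul_smul_comm]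
      _ = _ := by rw [h1, one_smul]
  have hPz : ∀ g, ∀ z ∈ (Subgroup.center Q), P (g * z) = P g := fun g z hz => by
    refine LinearMap.ext fun f => ?_
    rw [hP, hP]
    refine Finset.sum_congr rfl fun h _ => ?_
    rw [hχmul', hχz z hz, mul_one]
  have hPσ : ∀ g, ∀ f ∈ HallHigman.commutant S, P (σ g) f * S = S * P g f := by
    intro g f hf
    rw [hP, hP, Finset.sum_mul, Finset.mul_sum]
    conv_lhs => rw [← Equiv.sum_comp σ.toEquiv]
    refine Finset.sum_congr rfl fun h _ => ?_
    show (χ (σ g) (σ h))⁻¹ • (π (σ h) * f * π (σ h)⁻¹) * S = S * ((χ g h)⁻¹ • (π h * f * π h⁻¹))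
    rw [hχσ, smul_mul_assoc, mul_smul_comm, ← map_inv σ]
    congr 1
    rw [mul_assoc, ← hSπ, ← mul_assoc, mul_assoc (π (σ h)), ← HallHigman.mem_commutant.1 hf, ← mul_assoc, ← hSπ]
    simp only [mul_assoc]
  have hsumhom : ∀ f : Q →* K, (∑ h : Q, f h) = if f = 1 then (Fintype.card Q : K) else 0 :=
    fun f => by convert sum_hom_units f using 1; split_ifs <;> simp
  have hcQ : (Fintype.card Q : K) ≠ 0 := by rwa [← Nat.card_eq_fintype_card]
  have hcZ : (Nat.card (Subgroup.center Q) : K) ≠ 0 := by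
    intro e
    obtain ⟨c, hc⟩ := Subgroup.card_subgroup_dvd_card (Subgroup.center Q)
    rw [hc, Nat.cast_mul, e, zero_mul] at hQK
    exact hQK rfl
  have hsumP : ∀ f, ∑ g : Q, P g f = ((Fintype.card Q : K) * (Nat.card (Subgroup.center Q) : K)) • f := by
    intro f
    simp only [hP]
    rw [Finset.sum_comm]
    have key : ∀ h : Q, ∑ g : Q, (χ g h)⁻¹ = if h ∈ (Subgroup.center Q) then (Fintype.card Q : K) else 0 := by
      intro h
      let φ : Q →* K :=
        { toFun := fun g => (χ g h)⁻¹
          map_one' := by rw [hχz 1 (one_mem _) h, inv_one]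
          map_mul' := fun a b => by rw [hχmul', mul_inv] }
      have h1 := hsumhom φ
      rw [show (∑ g : Q, (χ g h)⁻¹) = ∑ g : Q, φ g from rfl, h1]
      refine if_congr ⟨fun e => hχtriv' h fun g => inv_eq_one.1 (DFunLike.congr_fun e g), fun hz =>
        MonoidHom.ext fun g => by simp [φ, hχz' h hz g]⟩ rfl rfl
    simp only [← Finset.sum_smul, key, ite_smul, zero_smul]
    rw [← Finset.sum_filter]
    have hz : ∀ h ∈ Finset.univ.filter (· ∈ (Subgroup.center Q)), π h * f * π h⁻¹ = f := by
      intro h hh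
      have hh' : h ∈ (Subgroup.center Q) := (Finset.mem_filter.1 hh).2
      have e1 := hlam ⟨h, hh'⟩
      rw [show π h = lam ⟨h, hh'⟩ • 1 from e1, smul_mul_assoc, one_mul]
      have e2 : π h * π h⁻¹ = 1 := hπu h
      rw [show π h = lam ⟨h, hh'⟩ • 1 from e1, smul_mul_assoc, one_mul] at e2
      rw [smul_mul_assoc, ← mul_smul_comm, e2, mul_one]
    rw [Finset.sum_congr rfl fun h hh => by rw [hz h hh], Finset.sum_const, ← Nat.cast_smul_eq_nsmul K, smul_smul]
    congr 1
    rw [mul_comm]
    congr 2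
    rw [Nat.card_eq_fintype_card, Fintype.card_subtype]
  -- lower bound: `dim End W ≥ |Q / Z| dim B`
  have := Fintype.ofFinite (Q ⧸ (Subgroup.center Q))
  let T : ((Q ⧸ (Subgroup.center Q)) → B) →ₗ[K] Module.End K W :=
    ∑ x : Q ⧸ (Subgroup.center Q), (LinearMap.mulLeft K (π x.out)) ∘ₗ B.subtype ∘ₗ LinearMap.proj x
  have hT : ∀ b, T b = ∑ x : Q ⧸ (Subgroup.center Q), π x.out * (b x : Module.End K W) := fun b => by simp [T]
  have hconjB : ∀ (x : Q ⧸ Subgroup.center Q) (b : B) (h : Q), π h * (π x.out * (b : Module.End K W)) * π h⁻¹ =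
      χ x.out h • (π x.out * (b : Module.End K W)) := by
    intro x b h
    rw [← smul_mul_assoc, ← hconj]
    conv_rhs => rw [← b.2 h]
    simp only [mul_assoc]
    rw [← mul_assoc (π h⁻¹) (π h), hπu', one_mul]
  have hTinj : Function.Injective T := by
    refine (injective_iff_map_eq_zero T).2 fun b hb => funext fun y => ?_
    have h1 : P y.out (T b) = 0 := by rw [hb, map_zero]
    rw [hT, map_sum, Finset.sum_eq_single y] at h1
    · have h2 : P y.out (π y.out * (b y : Module.End K W)) = (Fintype.card Q : K) • (π y.out * (b y : Module.End K W)) := by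
        rw [hP]
        simp only [hconjB, smul_smul, inv_mul_cancel₀ (hχne _ _), one_smul, Finset.sum_const, Finset.card_univ,
          Nat.cast_smul_eq_nsmul]
      rw [h2, smul_eq_zero, or_iff_right hcQ] at h1
      refine Subtype.ext ?_
      rw [← one_mul (b y : Module.End K W), ← hπu' y.out, mul_assoc, h1, mul_zero]
      rfl
    · intro x _ hxy
      rw [hP]
      simp only [hconjB, smul_smul, ← Finset.sum_smul]
      let φ : Q →* K :=
        { toFun := fun h => (χ y.out h)⁻¹ * χ x.out h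
          map_one' := by rw [hχ1, hχ1, inv_one, one_mul]
          map_mul' := fun a b => by rw [hχmul, hχmul, mul_inv]; ring }
      have h1' := hsumhom φ
      rw [show (∑ h : Q, (χ y.out h)⁻¹ * χ x.out h) = ∑ h : Q, φ h from rfl, h1', if_neg, zero_smul]
      intro e
      apply hxy
      rw [← QuotientGroup.out_eq' x, ← QuotientGroup.out_eq' y]
      refine QuotientGroup.eq.2 (hχtriv _ fun h => ?_)
      have e1 : (χ y.out h)⁻¹ * χ x.out h = 1 := DFunLike.congr_fun e h
      have e2 : χ x.out h = χ y.out h := ((inv_mul_eq_one₀ (hχne _ _)).1 e1).symm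
      rw [hχmul', ← e2]
      rw [← hχmul', inv_mul_cancel]
      exact hχz 1 (one_mem _) h
    · simp
  have hlow := LinearMap.finrank_le_finrank_of_injective hTinj
  rw [Module.finrank_pi_fintype, Finset.sum_const, Finset.card_univ, ← Nat.card_eq_fintype_card,
    smul_eq_mul, Module.finrank_linearMap, ← pow_two] at hlow
  -- upper bound: `dim C(S) ≤ #orbits · dim B`
  set τ := centralQuotientAut Q σ with hτ
  have := Fintype.ofFinite (MulAction.orbitRel.Quotient (Subgroup.zpowers τ) (Q ⧸ (Subgroup.center Q)))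
  let rep : MulAction.orbitRel.Quotient (Subgroup.zpowers τ) (Q ⧸ (Subgroup.center Q)) → Q := fun ω => ω.out.out
  let Φ : HallHigman.commutant S →ₗ[K] (MulAction.orbitRel.Quotient (Subgroup.zpowers τ) (Q ⧸ (Subgroup.center Q)) → B) :=
    LinearMap.pi fun ω => ((LinearMap.mulLeft K (π (rep ω)⁻¹)) ∘ₗ (P (rep ω)) ∘ₗ (HallHigman.commutant S).subtype).codRestrict B
      (fun f => hPB _ _)
  have hΦinj : Function.Injective Φ := by
    refine (injective_iff_map_eq_zero Φ).2 fun f hf => Subtype.ext ?_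
    have hrep : ∀ ω, P (rep ω) (f : Module.End K W) = 0 := fun ω => by
      have h1 : π (rep ω)⁻¹ * P (rep ω) (f : Module.End K W) = 0 := congrArg Subtype.val (congrFun hf ω)
      rw [← one_mul (P _ _), ← hπu (rep ω), mul_assoc, h1, mul_zero]
    let A : Subgroup (MulAut Q) :=
      { carrier := {τ | ∀ g, P (τ g) (f : Module.End K W) = 0 ↔ P g (f : Module.End K W) = 0}
        one_mem' := fun g => Iff.rfl
        mul_mem' := fun {a b} ha hb g => (ha (b g)).trans (hb g)
        inv_mem' := fun {a} ha g => by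
          have := ha (a⁻¹ g)
          rwa [MulAut.inv_def, MulEquiv.apply_symm_apply, iff_comm] at this }
    have hσA : Subgroup.zpowers σ ≤ A := Subgroup.zpowers_le.2 fun g => by
      constructor
      · intro h
        have := hPσ g f f.2
        rw [h, zero_mul] at this
        exact hSu.mul_right_injective (this.symm.trans (mul_zero S).symm)
      · intro h
        have := hPσ g f f.2
        rw [h, mul_zero] at this
        exact hSu.mul_left_injective (this.trans (zero_mul S).symm)
    have hall : ∀ g, P g (f : Module.End K W) = 0 := by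
      intro g
      set ω : MulAction.orbitRel.Quotient (Subgroup.zpowers τ) (Q ⧸ (Subgroup.center Q)) := Quotient.mk'' (g : Q ⧸ (Subgroup.center Q)) with hω
      obtain ⟨⟨t, ht⟩, hg⟩ : (g : Q ⧸ (Subgroup.center Q)) ∈ MulAction.orbit (Subgroup.zpowers τ) ω.out := by
        have := Quotient.mk_out (s := MulAction.orbitRel (Subgroup.zpowers τ) (Q ⧸ (Subgroup.center Q))) (g : Q ⧸ (Subgroup.center Q))
        exact (MulAction.orbitRel (Subgroup.zpowers τ) (Q ⧸ (Subgroup.center Q))).symm this
      obtain ⟨k, rfl⟩ := Subgroup.mem_zpowers_iff.1 ht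
      rw [← QuotientGroup.out_eq' ω.out] at hg
      change (τ ^ k) ((rep ω : Q) : Q ⧸ Subgroup.center Q) = _ at hg
      rw [hτ, ← map_zpow, centralQuotientAut_mk] at hg
      have h2 := QuotientGroup.eq.1 hg
      rw [show g = (σ ^ k) (rep ω) * (((σ ^ k) (rep ω))⁻¹ * g) by group, hPz _ _ h2,
        hσA (Subgroup.zpow_mem_zpowers σ k) (rep ω)]
      exact hrep ω
    have := hsumP (f : Module.End K W)
    rw [Finset.sum_eq_zero fun g _ => hall g, eq_comm, smul_eq_zero, or_iff_right (mul_ne_zero hcQ hcZ)] at this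
    exact this
  have hup := LinearMap.finrank_le_finrank_of_injective hΦinj
  rw [Module.finrank_pi_fintype, Finset.sum_const, Finset.card_univ, ← Nat.card_eq_fintype_card, smul_eq_mul] at hup
  have hbpos : 0 < Module.finrank K B := by
    refine Module.finrank_pos_iff_exists_ne_zero.2 ⟨⟨1, fun k => by rw [mul_one, hπu]⟩, fun e => ?_⟩
    have := congrArg Subtype.val e
    exact one_ne_zero this
  refine Nat.le_of_mul_le_mul_right ?_ hbpos
  rw [mul_assoc]
  exact hlow.trans (hcomm.trans (Nat.mul_le_mul_left _ hup))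

variable {p : ℕ} [Fact p.Prime] [CharP K p]

/-- `|Q / Z| ≤ (p ^ m - 1) ^ 2 |C_{Q/Z}(y)|` for an operator of order `p ^ m` with nilpotency below `p ^ m`. -/
theorem card_quotient_le_sq_mul_fixed [Nontrivial W] (π : Q →* Module.End K W) (hπ : Function.Injective π)
    (hQK : (Nat.card Q : K) ≠ 0) (hcl : ∀ a b : Q, ⁅a, b⁆ ∈ Subgroup.center Q)
    (hsc : ∀ z ∈ Subgroup.center Q, ∃ c : K, π z = c • 1)
    (σ : MulAut Q) {m : ℕ} (hm : 1 ≤ m) (hσ : σ ^ p ^ m = 1)
    (hy : centralQuotientAut Q (σ ^ p ^ (m - 1)) ≠ 1)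
    (S : Module.End K W) (hSu : IsUnit S) (hSπ : ∀ g, S * π g = π (σ g) * S)
    (hnil : (S - 1) ^ (p ^ m - 1) = 0) :
    Nat.card (Q ⧸ Subgroup.center Q) ≤ (p ^ m - 1) ^ 2 *
      Nat.card {x : Q ⧸ Subgroup.center Q // centralQuotientAut Q (σ ^ p ^ (m - 1)) x = x} := by
  classical
  have hp : p.Prime := Fact.out
  have h1 := card_quotient_le_mul_card_orbits π hπ hQK hcl hsc σ S hSu hSπ (d := p ^ m - 1) (by
    refine (HallHigman.sq_finrank_le_of_nilpotent (p ^ m - 1) (S - 1) hnil).trans (Nat.mul_le_mul_left _ ?_)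
    refine le_of_eq (congrArg (fun U : Submodule K _ => Module.finrank K U) (Submodule.ext fun f => ?_))
    simp only [HallHigman.mem_commutant, sub_mul, mul_sub, one_mul, mul_one, sub_left_inj])
  set τ := centralQuotientAut Q σ with hτ
  rw [map_pow, ← hτ] at hy ⊢
  have hτP : τ ^ p ^ m = 1 := by rw [hτ, ← map_pow, hσ, map_one]
  have hord : orderOf τ = p ^ m := by
    obtain ⟨i, hi, hi'⟩ := (Nat.dvd_prime_pow hp).1 (orderOf_dvd_of_pow_eq_one hτP)
    rcases eq_or_lt_of_le hi with rfl | h
    · exact hi'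
    · refine absurd (orderOf_dvd_iff_pow_eq_one.1 ?_) hy
      rw [hi']
      exact pow_dvd_pow p (by omega)
  have hA : Nat.card (Subgroup.zpowers τ) = p ^ m := by rw [Nat.card_zpowers, hord]
  set F := {x : Q ⧸ Subgroup.center Q // (τ ^ p ^ (m - 1)) x = x} with hF
  have := Fintype.ofFinite (Subgroup.zpowers τ)
  have := Fintype.ofFinite (Q ⧸ Subgroup.center Q)
  have := Fintype.ofFinite (MulAction.orbitRel.Quotient (Subgroup.zpowers τ) (Q ⧸ Subgroup.center Q))
  have hburn := MulAction.sum_card_fixedBy_eq_card_orbits_mul_card_group (Subgroup.zpowers τ) (Q ⧸ Subgroup.center Q)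
  have hbound : ∑ a : Subgroup.zpowers τ, Fintype.card (MulAction.fixedBy (Q ⧸ Subgroup.center Q) a) ≤
      Nat.card (Q ⧸ Subgroup.center Q) + (p ^ m - 1) * Nat.card F := by
    rw [← Finset.add_sum_erase _ _ (Finset.mem_univ (1 : Subgroup.zpowers τ))]
    refine Nat.add_le_add ?_ ?_
    · rw [← Nat.card_eq_fintype_card]
      exact Nat.card_le_card_of_injective (fun x => x.1) Subtype.val_injective
    · refine (Finset.sum_le_card_nsmul _ _ (Nat.card F) fun a ha => ?_).trans_eq ?_
      · rw [← Nat.card_eq_fintype_card]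
        refine Nat.card_le_card_of_injective (fun x => (⟨x.1, ?_⟩ : F)) fun x x' e =>
          Subtype.ext (congrArg (fun y : F => y.1) e)
        obtain ⟨k, hk⟩ := mem_powers_iff_mem_zpowers.2 a.2
        simp only at hk
        let St : Subgroup (MulAut (Q ⧸ Subgroup.center Q)) :=
          { carrier := {g | g x.1 = x.1}
            one_mem' := rfl
            mul_mem' := fun {a b} (ha : a x.1 = x.1) (hb : b x.1 = x.1) => show a (b x.1) = x.1 by rw [hb, ha]
            inv_mem' := fun {a} (ha : a x.1 = x.1) => show a⁻¹ x.1 = x.1 by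
              nth_rewrite 1 [← ha]
              rw [MulAut.inv_apply_self] }
        refine HallHigman.pow_pred_mem hp hτP St (k := k % p ^ m) ?_ (Nat.pos_of_ne_zero fun e => ?_)
          (Nat.mod_lt _ (pow_pos hp.pos m))
        · show (τ ^ (k % p ^ m)) x.1 = x.1
          rw [← hord, pow_mod_orderOf, hk]
          exact x.2
        · refine (Finset.mem_erase.1 ha).1 (Subtype.ext ?_)
          rw [← hk, ← pow_mod_orderOf, hord, e, pow_zero]; rfl
      · rw [Finset.card_erase_of_mem (Finset.mem_univ _), Finset.card_univ, ← Nat.card_eq_fintype_card, hA,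
          smul_eq_mul]
  rw [hburn, ← Nat.card_eq_fintype_card, ← Nat.card_eq_fintype_card, hA] at hbound
  set N := Nat.card (MulAction.orbitRel.Quotient (Subgroup.zpowers τ) (Q ⧸ Subgroup.center Q))
  set X := Nat.card (Q ⧸ Subgroup.center Q)
  have h2 : X * p ^ m ≤ (p ^ m - 1) * (X + (p ^ m - 1) * Nat.card F) :=
    calc X * p ^ m ≤ (p ^ m - 1) * N * p ^ m := Nat.mul_le_mul_right _ h1
      _ = (p ^ m - 1) * (N * p ^ m) := mul_assoc _ _ _
      _ ≤ _ := Nat.mul_le_mul_left _ hbound
  rw [mul_add, ← mul_assoc, ← pow_two] at h2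
  have h3 : X * p ^ m = (p ^ m - 1) * X + X := by
    have := Nat.one_le_pow m p hp.pos
    obtain ⟨r, hr⟩ : ∃ r, p ^ m = r + 1 := ⟨p ^ m - 1, by omega⟩
    rw [hr, Nat.add_sub_cancel]
    ring
  omega

end Cfsg.Agent.PLengthExp
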