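import Cfsg.Agent.Lib.PLengthExp.Commute
import Cfsg.Agent.Lib.PLengthExp.Scalar
import Cfsg.Agent.Lib.PGroup.Frattini

/-!
Two exceptional `p`-elements: if a `p`-group `T` acts on a `q`-group `R` (`q ≠ p`) compatibly with a
representation in characteristic `p`, and `s₁ ^ p ^ m₁ = 1`, `(s₁ - 1) ^ (p ^ m₁ - 1) = 0`, same for `s₂`, then
the commutator of `s₁ ^ p ^ (m₁ - 1)` and `s₂ ^ p ^ (m₂ - 1)` acts trivially on the image of `R`.
-/

set_option autoImplicit false
set_option linter.style.haveILetI false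

namespace Cfsg.Agent.PLengthExp

open Finset
open scoped commutatorElement

universe u v w x

variable {K : Type w} [Field K] [IsAlgClosed K] {p : ℕ} [Fact p.Prime] [CharP K p]

theorem exists_pow_mem_minimal {M : Type*} [Group M] {s : M} {m : ℕ} (hs : s ^ p ^ m = 1) (H : Subgroup M)
    {i : ℕ} (hi : s ^ p ^ i ∈ H) :
    ∃ j ≤ i, s ^ p ^ j ∈ H ∧ ∀ k, 0 < k → k < p ^ j → s ^ k ∉ H := by
  classical
  have hex : ∃ j, s ^ p ^ j ∈ H := ⟨i, hi⟩
  refine ⟨Nat.find hex, Nat.find_min' hex hi, Nat.find_spec hex, fun k hk0 hk hmem => ?_⟩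
  obtain ⟨l, hl, hgcd⟩ := (Nat.dvd_prime_pow (Fact.out : p.Prime)).1 (Nat.gcd_dvd_right k (p ^ m))
  have e : ((p ^ l : ℕ) : ℤ) = (k : ℤ) * Nat.gcdA k (p ^ m) + ((p ^ m : ℕ) : ℤ) * Nat.gcdB k (p ^ m) := by
    rw [← hgcd]; exact Nat.gcd_eq_gcd_ab k (p ^ m)
  have h1 : s ^ p ^ l ∈ H := by
    rw [← zpow_natCast, e, zpow_add, zpow_mul, zpow_mul, zpow_natCast, zpow_natCast, hs, one_zpow, mul_one]
    exact H.zpow_mem hmem _
  have h2 : p ^ l ≤ k := Nat.le_of_dvd hk0 (hgcd ▸ Nat.gcd_dvd_left k (p ^ m))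
  have h3 : p ^ Nat.find hex ≤ p ^ l :=
    Nat.pow_le_pow_right (Fact.out : p.Prime).pos (Nat.find_min' hex h1)
  omega

omit [IsAlgClosed K] in
/-- Powers of `S` moving an eigenspace of a coprime abelian group to distinct eigenspaces are independent. -/
theorem eq_zero_of_sum_translates {Z : Type*} [CommGroup Z] [Finite Z] {W : Type*} [AddCommGroup W] [Module K W]
    (hZK : (Nat.card Z : K) ≠ 0) (ρ : Z →* Module.End K W) (μ : ℕ → Z →* K) (u : ℕ → W) {r : ℕ} (hr : 0 < r)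
    (hu : ∀ i < r, ∀ z, ρ z (u i) = μ i z • u i) (hne : ∀ i < r, i ≠ 0 → μ i ≠ μ 0)
    (hsum : ∑ i ∈ range r, u i = 0) : u 0 = 0 := by
  classical
  have := Fintype.ofFinite Z
  let E : Module.End K W := ∑ z : Z, μ 0 z⁻¹ • ρ z
  have hE : ∀ i < r, E (u i) = (if i = 0 then (Fintype.card Z : K) else 0) • u i := by
    intro i hi
    simp only [E, LinearMap.sum_apply, LinearMap.smul_apply, hu i hi, smul_smul, ← Finset.sum_smul]
    congr 1
    let φ : Z →* K :=
      { toFun := fun z => μ 0 z⁻¹ * μ i z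
        map_one' := by simp
        map_mul' := fun a b => by rw [mul_inv_rev, map_mul, map_mul, mul_comm (μ 0 b⁻¹)]; ring }
    have h1 : (∑ z : Z, φ z) = if φ = 1 then (Fintype.card Z : K) else 0 := by
      convert sum_hom_units φ using 1; split_ifs <;> simp
    refine h1.trans (if_congr ⟨fun e => ?_, fun e => ?_⟩ rfl rfl)
    · by_contra hi0
      refine hne i hi hi0 (MonoidHom.ext fun z => ?_)
      have e1 : μ 0 z⁻¹ * μ i z = 1 := DFunLike.congr_fun e z
      calc μ i z = μ 0 z * μ 0 z⁻¹ * μ i z := by rw [← map_mul, mul_inv_cancel, map_one, one_mul]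
        _ = μ 0 z := by rw [mul_assoc, e1, mul_one]
    · subst e
      refine MonoidHom.ext fun z => ?_
      show μ 0 z⁻¹ * μ 0 z = 1
      rw [← map_mul, inv_mul_cancel, map_one]
  have h2 := congrArg E hsum
  rw [map_sum, map_zero, Finset.sum_congr rfl fun i hi => hE i (Finset.mem_range.1 hi), Finset.sum_eq_single 0
    (fun i _ hi => by rw [if_neg hi, zero_smul]) (fun h => absurd (Finset.mem_range.2 hr) h), if_pos rfl,
    smul_eq_zero, ← Nat.card_eq_fintype_card] at h2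
  exact h2.resolve_left hZK

set_option maxHeartbeats 1000000 in
/-- The core commutation statement. -/
theorem commutator_trivial (hp2 : p ≠ 2) {q : ℕ} [Fact q.Prime] (hqp : q ≠ p) :
    ∀ (N : ℕ) {R : Type u} [Group R] [Finite R] {W : Type v} [AddCommGroup W] [Module K W]
      [FiniteDimensional K W] {T : Type x} [Group T], Nat.card R + Module.finrank K W ≤ N → IsPGroup q R →
      IsPGroup p T → ∀ (α : T →* MulAut R) (π : R →* Module.End K W) (L : T →* Module.End K W),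
      (∀ t g, L t * π g = π (α t g) * L t) →
      ∀ (s₁ s₂ : T) (m₁ m₂ : ℕ), 1 ≤ m₁ → 1 ≤ m₂ → s₁ ^ p ^ m₁ = 1 → s₂ ^ p ^ m₂ = 1 →
      (L s₁ - 1) ^ (p ^ m₁ - 1) = 0 → (L s₂ - 1) ^ (p ^ m₂ - 1) = 0 →
      ∀ g, π (α ⁅s₁ ^ p ^ (m₁ - 1), s₂ ^ p ^ (m₂ - 1)⁆ g) = π g := by
  intro N
  induction N using Nat.strong_induction_on with
  | _ N ih =>
  intro R _ _ W _ _ _ T _ hN hR hT α π L hLπ s₁ s₂ m₁ m₂ hm₁ hm₂ hs₁ hs₂ hn₁ hn₂
  classical
  have hp : p.Prime := Fact.out
  have hq : q.Prime := Fact.out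
  have hcardK : ∀ (H : Type u) [Group H] [Finite H], IsPGroup q H → (Nat.card H : K) ≠ 0 := by
    intro H _ _ hH e
    obtain ⟨k, hk⟩ := hH.exists_card_eq
    rw [hk, CharP.cast_eq_zero_iff K p] at e
    exact hqp ((Nat.prime_dvd_prime_iff_eq hp hq).1 (hp.dvd_of_dvd_pow e)).symm
  have hLu : ∀ t, IsUnit (L t) := fun t => by
    obtain ⟨k, hk⟩ := hT t
    exact IsUnit.of_pow_eq_one (by rw [← map_pow, hk, map_one]) (pow_pos hp.pos k).ne'
  set c := ⁅s₁ ^ p ^ (m₁ - 1), s₂ ^ p ^ (m₂ - 1)⁆ with hc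
  -- Theorem B
  have hB : ∀ (s : T) (m : ℕ), 1 ≤ m → s ^ p ^ m = 1 → (L s - 1) ^ (p ^ m - 1) = 0 →
      ∀ (R₁ : Subgroup R), R₁.map (α s).toMonoidHom = R₁ → (∀ a ∈ R₁, ∀ b ∈ R₁, a * b = b * a) →
      ∀ g ∈ R₁, π (α (s ^ p ^ (m - 1)) g) = π g := by
    intro s m hm hs hn R₁ hR₁ hab g hg
    by_contra hne
    let σ : MulAut R₁ := ((α s).subgroupMap R₁).trans (MulEquiv.subgroupCongr hR₁)
    have hpow : ∀ (k : ℕ) (x : R₁), ((σ ^ k) x : R) = α (s ^ k) x := by
      intro k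
      induction k with
      | zero => intro x; simp
      | succ k ih =>
        intro x
        rw [pow_succ, MulAut.mul_apply, ih, pow_succ s, map_mul, MulAut.mul_apply]
        rfl
    obtain ⟨-, -, a, b, hab'⟩ := HallHigman.theorem_b_core hp2 hqp m (hR.to_subgroup R₁) (π.comp R₁.subtype) σ hm
      (MulEquiv.ext fun x => Subtype.ext (by rw [hpow, hs, map_one]; rfl)) (L s)
      (by rw [← map_pow, hs, map_one]) (fun x => hLπ s x)
      ⟨⟨g, hg⟩, fun e => hne (by
        have e' : π ((σ ^ p ^ (m - 1)) ⟨g, hg⟩ : R) = π g := e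
        rwa [hpow] at e')⟩ hn
    exact hab' (Subtype.ext (hab a a.2 b b.2))
  have hinvar : ∀ (R₁ : Subgroup R), (∀ t, ∀ g ∈ R₁, α t g ∈ R₁) → ∀ t, R₁.map (α t).toMonoidHom = R₁ := by
    intro R₁ h t
    refine Subgroup.eq_of_le_of_card_ge ?_ (Subgroup.card_map_of_injective (α t).injective).ge
    rintro _ ⟨g, hg, rfl⟩
    exact h t g hg
  have hcomm_of : ∀ (y₁ y₂ : T) (g : R), (∀ x, π (α y₁ x) = π x) → (∀ x, π (α y₂ x) = π x) →
      π (α ⁅y₁, y₂⁆ g) = π g := by
    intro y₁ y₂ g h₁ h₂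
    have hi : ∀ y, (∀ x, π (α y x) = π x) → ∀ x, π (α y⁻¹ x) = π x := fun y hy x => by
      rw [← hy (α y⁻¹ x), ← MulAut.mul_apply, ← map_mul, mul_inv_cancel, map_one, MulAut.one_apply]
    simp only [commutatorElement_def, map_mul, MulAut.mul_apply]
    rw [h₁, h₂, hi y₁ h₁, hi y₂ h₂]
  by_cases habel : ∀ a b : R, a * b = b * a
  · intro g
    refine hcomm_of _ _ g (fun x => ?_) (fun x => ?_)
    · exact hB s₁ m₁ hm₁ hs₁ hn₁ ⊤ (hinvar ⊤ (fun _ _ _ => trivial) s₁) (fun a _ b _ => habel a b) x trivial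
    · exact hB s₂ m₂ hm₂ hs₂ hn₂ ⊤ (hinvar ⊤ (fun _ _ _ => trivial) s₂) (fun a _ b _ => habel a b) x trivial
  -- unfaithful representation
  by_cases hker : π.ker ≠ ⊥
  · have hmem : ∀ t, ∀ g ∈ π.ker, α t g ∈ π.ker := by
      intro t g hg
      have h1 := hLπ t g
      rw [show π g = 1 from hg, mul_one] at h1
      exact ((hLu t).mul_right_cancel ((one_mul (L t)).trans h1)).symm
    let α' : T →* MulAut (R ⧸ π.ker) :=
      { toFun := fun t => QuotientGroup.congr π.ker π.ker (α t) (hinvar _ hmem t)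
        map_one' := MulEquiv.ext fun x => by
          induction x using QuotientGroup.induction_on with | H g => ?_
          show ((α 1 g : R) : R ⧸ π.ker) = g
          rw [map_one]; rfl
        map_mul' := fun a b => MulEquiv.ext fun x => by
          induction x using QuotientGroup.induction_on with | H g => ?_
          show ((α (a * b) g : R) : R ⧸ π.ker) = ((α a (α b g) : R) : R ⧸ π.ker)
          rw [map_mul]; rfl }
    have hlt : Nat.card (R ⧸ π.ker) < Nat.card R := by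
      rw [Subgroup.card_eq_card_quotient_mul_card_subgroup π.ker]
      exact lt_mul_of_one_lt_right Nat.card_pos (Subgroup.one_lt_card_iff_ne_bot _ |>.2 hker)
    intro g
    exact ih _ (lt_of_lt_of_le (Nat.add_lt_add_right hlt _) hN) le_rfl (hR.to_quotient π.ker) hT α'
      (QuotientGroup.lift π.ker π le_rfl) L
      (fun t x => by induction x using QuotientGroup.induction_on with | H g => exact hLπ t g)
      s₁ s₂ m₁ m₂ hm₁ hm₂ hs₁ hs₂ hn₁ hn₂ (g : R ⧸ π.ker)
  push Not at hker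
  have hπ : Function.Injective π := (MonoidHom.ker_eq_bot_iff π).1 hker
  suffices hmain : α c = 1 by intro g; rw [hmain]; rfl
  by_contra hαc
  have hqpow : ∀ z : R, ∀ k : ℕ, z ^ p ^ k = 1 → z = 1 := by
    intro z k hz
    obtain ⟨i, hi⟩ := hR z
    exact orderOf_eq_one_iff.1 (Nat.eq_one_of_dvd_coprimes ((((Nat.coprime_primes hp hq).2 hqp.symm).pow k i))
      (orderOf_dvd_of_pow_eq_one hz) (orderOf_dvd_of_pow_eq_one hi))
  have hfix : ∀ (d : T) (g z : R), α d g = g * z → α d z = z → z = 1 := by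
    intro d g z hg hz
    have hk : ∀ k : ℕ, α (d ^ k) g = g * z ^ k := by
      intro k
      induction k with
      | zero => simp
      | succ k ih =>
        rw [pow_succ', map_mul, MulAut.mul_apply, ih, map_mul, map_pow, hg, hz, pow_succ', mul_assoc]
    obtain ⟨k, hk'⟩ := hT d
    have h1 := hk (p ^ k)
    rw [hk', map_one, MulAut.one_apply, left_eq_mul] at h1
    exact hqpow z k h1
  -- proper invariant subgroups are fixed
  have hsub : ∀ R₁ : Subgroup R, R₁ ≠ ⊤ → (∀ t, ∀ g ∈ R₁, α t g ∈ R₁) → ∀ g ∈ R₁, α c g = g := by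
    intro R₁ hne hinv g hg
    let α₁ : T →* MulAut R₁ :=
      { toFun := fun t => ((α t).subgroupMap R₁).trans (MulEquiv.subgroupCongr (hinvar R₁ hinv t))
        map_one' := MulEquiv.ext fun x => Subtype.ext (show α 1 (x : R) = x by rw [map_one]; rfl)
        map_mul' := fun a b => MulEquiv.ext fun x => Subtype.ext
          (show α (a * b) (x : R) = α a (α b x) by rw [map_mul]; rfl) }
    have hlt : Nat.card R₁ < Nat.card R := lt_of_le_of_ne R₁.card_le_card_group fun e =>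
      hne ((Subgroup.card_eq_iff_eq_top R₁).1 e)
    exact hπ (ih _ (lt_of_lt_of_le (Nat.add_lt_add_right hlt _) hN) le_rfl (hR.to_subgroup R₁) hT α₁
      (π.comp R₁.subtype) L (fun t x => hLπ t x) s₁ s₂ m₁ m₂ hm₁ hm₂ hs₁ hs₂ hn₁ hn₂ ⟨g, hg⟩)
  -- all conjugates of `c`
  have hsub' : ∀ R₁ : Subgroup R, R₁ ≠ ⊤ → (∀ t, ∀ g ∈ R₁, α t g ∈ R₁) → ∀ t, ∀ g ∈ R₁,
      α (t * c * t⁻¹) g = g := by
    intro R₁ hne hinv t g hg
    rw [map_mul, map_mul, MulAut.mul_apply, MulAut.mul_apply, hsub R₁ hne hinv _ (hinv _ g hg),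
      ← MulAut.mul_apply, ← map_mul, mul_inv_cancel, map_one]
    rfl
  set D := Subgroup.closure (Set.range fun x : T × R => x.2⁻¹ * α (x.1 * c * x.1⁻¹) x.2) with hD
  have hDinv : ∀ t, ∀ g ∈ D, α t g ∈ D := by
    intro t
    suffices h : D ≤ D.comap (α t).toMonoidHom from fun g hg => h hg
    refine (Subgroup.closure_le _).2 ?_
    rintro _ ⟨⟨u, g⟩, rfl⟩
    refine Subgroup.subset_closure ⟨⟨t * u, α t g⟩, ?_⟩
    show (α t g)⁻¹ * α (t * u * c * (t * u)⁻¹) (α t g) = α t (g⁻¹ * α (u * c * u⁻¹) g)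
    rw [map_mul (α t), map_inv (α t), ← MulAut.mul_apply, ← MulAut.mul_apply, ← map_mul, ← map_mul]
    congr 3
    group
  have hDtop : D = ⊤ := by
    by_contra hne
    refine hαc (MulEquiv.ext fun g => ?_)
    have hz : g⁻¹ * α c g ∈ D := Subgroup.subset_closure ⟨⟨1, g⟩, by simp⟩
    have := hfix c g (g⁻¹ * α c g) (by group) (hsub D hne hDinv _ hz)
    exact (inv_mul_eq_one.1 this).symm
  haveI : Nontrivial R := by
    by_contra hnt
    rw [not_nontrivial_iff_subsingleton] at hnt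
    exact habel fun a b => Subsingleton.elim _ _
  have hchar : ∀ (R₁ : Subgroup R) [R₁.Characteristic], ∀ t, ∀ g ∈ R₁, α t g ∈ R₁ := fun R₁ _ t g hg =>
    Subgroup.characteristic_iff_map_le.1 inferInstance (α t) (Subgroup.mem_map_of_mem _ hg)
  have hZne : Subgroup.center R ≠ ⊤ := fun h => habel fun a b =>
    (Subgroup.mem_center_iff.1 (h.ge (Subgroup.mem_top b)) a)
  have hΦne : frattini R ≠ ⊤ := by
    intro h
    obtain ⟨M, hM, -⟩ := (IsCoatomic.eq_top_or_exists_le_coatom (⊥ : Subgroup R)).resolve_left bot_ne_top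
    exact hM.1 (top_unique (h ▸ frattini_le_coatom hM))
  have hΦZ : frattini R ≤ Subgroup.center R := by
    intro z hz
    have h : (⊤ : Subgroup R) ≤ Subgroup.centralizer ({z} : Set R) := hDtop ▸ (Subgroup.closure_le _).2 (by
      rintro _ ⟨⟨t, g⟩, rfl⟩
      rw [SetLike.mem_coe, Subgroup.mem_centralizer_singleton_iff]
      show g⁻¹ * α (t * c * t⁻¹) g * z = z * (g⁻¹ * α (t * c * t⁻¹) g)
      symm
      set τ := α (t * c * t⁻¹) with hτ
      have h1 : ⁅g, z⁆ ∈ frattini R := Cfsg.Agent.PGroup.commutator_le_frattini hR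
        (Subgroup.commutator_mem_commutator (Subgroup.mem_top g) (Subgroup.mem_top z))
      have h2 := hsub' _ hΦne (fun t g hg => hchar _ t g hg) t _ h1
      rw [← hτ, map_commutatorElement, show τ z = z from hsub' _ hΦne (fun t g hg => hchar _ t g hg) t z hz,
        commutatorElement_def, commutatorElement_def, mul_left_inj] at h2
      calc z * (g⁻¹ * τ g) = g⁻¹ * (g * z * g⁻¹) * τ g := by group
        _ = g⁻¹ * (τ g * z * (τ g)⁻¹) * τ g := by rw [h2]
        _ = g⁻¹ * τ g * z := by group)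
    exact Subgroup.mem_center_iff.2 fun g => Subgroup.mem_centralizer_singleton_iff.1 (h (Subgroup.mem_top g))
  have hcl : ∀ a b : R, ⁅a, b⁆ ∈ Subgroup.center R := fun a b => hΦZ (Cfsg.Agent.PGroup.commutator_le_frattini hR
    (Subgroup.commutator_mem_commutator (Subgroup.mem_top a) (Subgroup.mem_top b)))
  have hcZ : ∀ z ∈ Subgroup.center R, α c z = z := hsub _ hZne (fun t g hg => hchar _ t g hg)
  have hyZ : ∀ (s : T) (m : ℕ), 1 ≤ m → s ^ p ^ m = 1 → (L s - 1) ^ (p ^ m - 1) = 0 →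
      ∀ z ∈ Subgroup.center R, α (s ^ p ^ (m - 1)) z = z := fun s m hm hs hn z hz =>
    hπ (hB s m hm hs hn _ (hinvar _ (fun t g hg => hchar _ t g hg) s)
      (fun a _ b hb => Subgroup.mem_center_iff.1 hb a) z hz)
  by_cases hsc : ∀ z ∈ Subgroup.center R, ∃ a : K, π z = a • 1
  swap
  · -- split by a central character
    push Not at hsc
    obtain ⟨z₀, hz₀, hz₀s⟩ := hsc
    obtain ⟨g₀, hg₀⟩ : ∃ g₀, α c g₀ ≠ g₀ := by
      by_contra h
      push Not at h
      exact hαc (MulEquiv.ext h)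
    let _ : CommGroup (Subgroup.center R) :=
      { (inferInstance : Group (Subgroup.center R)) with
        mul_comm := fun a b => Subtype.ext (Subgroup.mem_center_iff.1 b.2 a) }
    let ρ : Subgroup.center R →* Module.End K W := π.comp (Subgroup.center R).subtype
    have hZK := hcardK (Subgroup.center R) (hR.to_subgroup _)
    have hzc : ∀ (g : R) (z : Subgroup.center R), π g * ρ z = ρ z * π g := fun g z => by
      show π g * π (z : R) = π (z : R) * π g
      rw [← map_mul, ← map_mul, Subgroup.mem_center_iff.1 z.2 g]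
    obtain ⟨μ, v, hv, hDv⟩ := HallHigman.exists_character hZK ρ (π (α c g₀) - π g₀)
      (sub_ne_zero.2 fun e => hg₀ (hπ e)) (fun z => by rw [sub_mul, mul_sub, hzc, hzc])
    let Wμ : Submodule K W :=
      { carrier := {w | ∀ z, ρ z w = μ z • w}
        zero_mem' := fun z => by simp
        add_mem' := fun {a b} ha hb z => by rw [map_add, ha, hb, smul_add]
        smul_mem' := fun k a ha z => by rw [map_smul, ha, smul_comm] }
    have hWlt : Module.finrank K Wμ < Module.finrank K W := by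
      refine Submodule.finrank_lt fun h => hz₀s (μ ⟨z₀, hz₀⟩) (LinearMap.ext fun w => ?_)
      exact (h ▸ Submodule.mem_top : w ∈ Wμ) ⟨z₀, hz₀⟩
    have hπW : ∀ g, ∀ w ∈ Wμ, π g w ∈ Wμ := fun g w hw z => by
      rw [← Module.End.mul_apply, ← hzc, Module.End.mul_apply, hw z, map_smul]
    let αZ : T → Subgroup.center R → Subgroup.center R := fun t z => ⟨α t z, hchar _ t z z.2⟩
    have hαZ : ∀ a b z, αZ (a * b) z = αZ a (αZ b z) := fun a b z =>
      Subtype.ext (show α (a * b) (z : R) = α a (α b z) by rw [map_mul]; rfl)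
    have hαZ1 : ∀ z, αZ 1 z = z := fun z => Subtype.ext (show α 1 (z : R) = z by rw [map_one]; rfl)
    let H : Subgroup T :=
      { carrier := {t | ∀ z, μ (αZ t z) = μ z}
        one_mem' := fun z => by rw [hαZ1]
        mul_mem' := fun {a b} ha hb z => by rw [hαZ, ha, hb]
        inv_mem' := fun {a} ha z => by
          rw [← ha, ← hαZ, mul_inv_cancel, hαZ1] }
    have hshift : ∀ (t : T) (w : W), w ∈ Wμ → ∀ z, ρ z (L t w) = μ (αZ t⁻¹ z) • L t w := by
      intro t w hw z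
      have h1 := hLπ t (α t⁻¹ (z : R))
      rw [← MulAut.mul_apply, ← map_mul, mul_inv_cancel, map_one, MulAut.one_apply] at h1
      show π (z : R) (L t w) = _
      rw [← Module.End.mul_apply, ← h1, Module.End.mul_apply, show π (α t⁻¹ (z : R)) w = _ from hw (αZ t⁻¹ z),
        map_smul]
    have hLW : ∀ t ∈ H, ∀ w ∈ Wμ, L t w ∈ Wμ := fun t ht w hw z => by
      rw [hshift t w hw, H.inv_mem ht z]
    -- descend each element
    have hdesc : ∀ (s : T) (m : ℕ), 1 ≤ m → s ^ p ^ m = 1 → (L s - 1) ^ (p ^ m - 1) = 0 →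
        ∃ j, j < m ∧ s ^ p ^ j ∈ H ∧ ∀ w ∈ Wμ, ((L (s ^ p ^ j) - 1) ^ (p ^ (m - j) - 1) : Module.End K W) w = 0 := by
      intro s m hm hs hn
      obtain ⟨j, hjm, hjH, hjmin⟩ := exists_pow_mem_minimal hs H (i := m - 1) (fun z => by
        congr 1
        exact Subtype.ext (hyZ s m hm hs hn z z.2))
      refine ⟨j, by omega, hjH, fun w hw => ?_⟩
      set w' := ((L (s ^ p ^ j) - 1) ^ (p ^ (m - j) - 1) : Module.End K W) w with hw'
      have hw'W : w' ∈ Wμ := by
        rw [hw', HallHigman.sub_one_pow_eq_sum, LinearMap.sum_apply]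
        exact Submodule.sum_mem _ fun k _ => by
          rw [← map_pow]; exact hLW _ (H.pow_mem hjH k) w hw
      have hsum : ((L s - 1) ^ (p ^ j - 1) : Module.End K W) w' = 0 := by
        rw [hw', ← Module.End.mul_apply, map_pow, show (L s ^ p ^ j - 1) = (L s - 1) ^ p ^ j by
          have h := congrArg (Polynomial.aeval (L s))
            (sub_pow_char_pow (R := Polynomial K) (p := p) (n := j) (x := Polynomial.X) (y := 1))
          simpa using h.symm, ← pow_mul, ← pow_add, show p ^ j - 1 + p ^ j * (p ^ (m - j) - 1) = p ^ m - 1 by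
            rw [Nat.mul_sub, mul_one, ← pow_add, Nat.add_sub_cancel' (show j ≤ m by omega)]
            have := Nat.pow_le_pow_right hp.pos (show j ≤ m by omega)
            have := Nat.one_le_pow j p hp.pos
            omega, hn, LinearMap.zero_apply]
      rw [HallHigman.sub_one_pow_eq_sum, LinearMap.sum_apply] at hsum
      have := eq_zero_of_sum_translates hZK ρ
        (fun k => μ.comp
          { toFun := αZ (s ^ k)⁻¹
            map_one' := Subtype.ext (map_one (α (s ^ k)⁻¹))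
            map_mul' := fun a b => Subtype.ext (map_mul (α (s ^ k)⁻¹) _ _) })
        (fun k => (L s ^ k) w') (pow_pos hp.pos j) (fun k _ z => by
          show ρ z ((L s ^ k) w') = μ (αZ (s ^ k)⁻¹ z) • (L s ^ k) w'
          rw [← map_pow]
          exact hshift (s ^ k) w' hw'W z)
        (fun k hk hk0 e => hjmin k (Nat.pos_of_ne_zero hk0) hk (H.inv_mem_iff.1 fun z => by
          have := DFunLike.congr_fun e z
          change μ (αZ (s ^ k)⁻¹ z) = μ (αZ (s ^ 0)⁻¹ z) at this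
          rwa [pow_zero, inv_one, hαZ1] at this)) hsum
      simpa using this
    obtain ⟨j₁, hj₁, hj₁H, hn₁'⟩ := hdesc s₁ m₁ hm₁ hs₁ hn₁
    obtain ⟨j₂, hj₂, hj₂H, hn₂'⟩ := hdesc s₂ m₂ hm₂ hs₂ hn₂
    let L' : H →* Module.End K Wμ :=
      { toFun := fun t => (L (t : T)).restrict (hLW t t.2)
        map_one' := by ext w; simp
        map_mul' := fun a b => by ext w; simp }
    let π' : R →* Module.End K Wμ :=
      { toFun := fun g => (π g).restrict (hπW g)
        map_one' := by ext w; simp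
        map_mul' := fun a b => by ext w; simp }
    have hnil : ∀ (t : H) (k : ℕ), (∀ w ∈ Wμ, ((L (t : T) - 1) ^ k : Module.End K W) w = 0) → (L' t - 1) ^ k = 0 := by
      intro t k h
      have h1 : ∀ w ∈ Wμ, (L (t : T) - 1 : Module.End K W) w ∈ Wμ := fun w hw =>
        sub_mem (hLW t t.2 w hw) hw
      have e : L' t - 1 = (L (t : T) - 1).restrict h1 := LinearMap.ext fun w => Subtype.ext rfl
      refine LinearMap.ext fun w => Subtype.ext ?_
      rw [e, Module.End.pow_restrict]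
      exact h w w.2
    have hres := ih _ (lt_of_lt_of_le (Nat.add_lt_add_left hWlt _) hN) le_rfl hR (hT.to_subgroup H)
      (α.comp H.subtype) π' L' (fun t g => LinearMap.ext fun w => Subtype.ext
        (LinearMap.congr_fun (hLπ t g) (w : W)))
      (⟨s₁ ^ p ^ j₁, hj₁H⟩ : H) (⟨s₂ ^ p ^ j₂, hj₂H⟩ : H) (m₁ - j₁) (m₂ - j₂) (by omega) (by omega)
      (Subtype.ext (show (s₁ ^ p ^ j₁) ^ p ^ (m₁ - j₁) = 1 by
        rw [← pow_mul, ← pow_add, Nat.add_sub_cancel' hj₁.le, hs₁]))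
      (Subtype.ext (show (s₂ ^ p ^ j₂) ^ p ^ (m₂ - j₂) = 1 by
        rw [← pow_mul, ← pow_add, Nat.add_sub_cancel' hj₂.le, hs₂]))
      (hnil _ _ hn₁') (hnil _ _ hn₂') g₀
    refine hDv ?_
    rw [LinearMap.sub_apply, sub_eq_zero]
    have h1 := congrArg Subtype.val (LinearMap.congr_fun hres ⟨v, hv⟩)
    have e : ((⁅(⟨s₁ ^ p ^ j₁, hj₁H⟩ : H) ^ p ^ (m₁ - j₁ - 1), (⟨s₂ ^ p ^ j₂, hj₂H⟩ : H) ^ p ^ (m₂ - j₂ - 1)⁆ : H) : T) = c := by
      show ⁅(s₁ ^ p ^ j₁) ^ p ^ (m₁ - j₁ - 1), (s₂ ^ p ^ j₂) ^ p ^ (m₂ - j₂ - 1)⁆ = c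
      rw [← pow_mul, ← pow_mul, ← pow_add, ← pow_add, show j₁ + (m₁ - j₁ - 1) = m₁ - 1 by omega,
        show j₂ + (m₂ - j₂ - 1) = m₂ - 1 by omega]
    change π (α ((⁅(⟨s₁ ^ p ^ j₁, hj₁H⟩ : H) ^ p ^ (m₁ - j₁ - 1), (⟨s₂ ^ p ^ j₂, hj₂H⟩ : H) ^ p ^ (m₂ - j₂ - 1)⁆ : H) : T) g₀) v = π g₀ v at h1
    rwa [e] at h1
  -- scalar centre
  haveI : Nontrivial W := by
    by_contra hW
    rw [not_nontrivial_iff_subsingleton] at hW
    exact habel fun a b => hπ (LinearMap.ext fun w => Subsingleton.elim _ _)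
  have hfixZ : ∀ t, ∀ z ∈ Subgroup.center R, α t z = z := fun t z hz => hπ (by
    obtain ⟨a, ha⟩ := hsc z hz
    have h1 := hLπ t z
    rw [ha, mul_smul_comm, mul_one, ← one_mul (L t), ← smul_mul_assoc, one_mul, ← ha] at h1
    exact ((hLu t).mul_right_cancel h1).symm)
  let β : T →* MulAut (R ⧸ Subgroup.center R) := (centralQuotientAut R).comp α
  have hβ : ∀ d, β d = 1 → α d = 1 := by
    intro d hd
    refine MulEquiv.ext fun g => ?_
    have h1 : ((α d g : R) : R ⧸ Subgroup.center R) = g := DFunLike.congr_fun hd (g : R ⧸ Subgroup.center R)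
    have h2 : g⁻¹ * α d g ∈ Subgroup.center R := QuotientGroup.eq.1 h1.symm
    exact (inv_mul_eq_one.1 (hfix d g (g⁻¹ * α d g) (by group) (hfixZ d _ h2))).symm
  let _ : CommGroup (R ⧸ Subgroup.center R) :=
    { (inferInstance : Group (R ⧸ Subgroup.center R)) with
      mul_comm := fun x y => by
        obtain ⟨a, rfl⟩ := QuotientGroup.mk_surjective x
        obtain ⟨b, rfl⟩ := QuotientGroup.mk_surjective y
        rw [← QuotientGroup.mk_mul, ← QuotientGroup.mk_mul, QuotientGroup.eq]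
        have h := hcl b⁻¹ a⁻¹
        rw [commutatorElement_def, inv_inv, inv_inv] at h
        rwa [mul_inv_rev, ← mul_assoc] }
  have hV : ∀ x : R ⧸ Subgroup.center R, x ^ p = 1 → x = 1 := fun x hx => by
    obtain ⟨i, hi⟩ := hR.to_quotient (Subgroup.center R) x
    exact orderOf_eq_one_iff.1 (Nat.eq_one_of_dvd_coprimes (((Nat.coprime_primes hp hq).2 hqp.symm).pow_right i)
      (orderOf_dvd_of_pow_eq_one hx) (orderOf_dvd_of_pow_eq_one hi))
  refine hαc (hβ c ?_)
  rw [hc, map_commutatorElement, commutatorElement_eq_one_iff_mul_comm, map_pow, map_pow]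
  by_contra hne
  have hTb : IsPGroup p β.range := hT.of_surjective β.rangeRestrict β.rangeRestrict_surjective
  obtain ⟨A, hAn, hAc, hAmax⟩ := PGroup.exists_maximal_abelian_normal (G := β.range)
  haveI := hAn
  have hAC := PGroup.centralizer_eq_of_maximal_abelian_normal hTb hAc hAmax
  set A' := A.map β.range.subtype with hA'
  have hA'c : IsMulCommutative A' := ⟨⟨fun x y => by
    obtain ⟨a, ha, ea⟩ := x.2
    obtain ⟨b, hb, eb⟩ := y.2
    refine Subtype.ext ?_
    show (x : MulAut (R ⧸ Subgroup.center R)) * y = y * x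
    rw [← ea, ← eb, ← map_mul, ← map_mul]
    exact congrArg _ (congrArg Subtype.val (hAc.is_comm.comm ⟨a, ha⟩ ⟨b, hb⟩))⟩⟩
  have key : ∀ (s : T) (m : ℕ), 1 ≤ m → s ^ p ^ m = 1 → (L s - 1) ^ (p ^ m - 1) = 0 →
      ∃ a ∈ A, ((a : β.range) : MulAut (R ⧸ Subgroup.center R)) = β s ^ p ^ (m - 1) := by
    intro s m hm hs hn
    let y' : β.range := ⟨β s, ⟨s, rfl⟩⟩ ^ p ^ (m - 1)
    refine ⟨y', ?_, rfl⟩
    rcases eq_or_ne (β s ^ p ^ (m - 1)) 1 with h1 | h1
    · rw [show y' = 1 from Subtype.ext h1]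
      exact one_mem _
    rw [← hAC, Subgroup.mem_centralizer_iff]
    intro a ha
    apply Subtype.ext
    show (a : MulAut (R ⧸ Subgroup.center R)) * β s ^ p ^ (m - 1) = β s ^ p ^ (m - 1) * a
    have hbound := card_quotient_le_sq_mul_fixed (p := p) π hπ (hcardK R hR) hcl hsc (α s) hm
      (by rw [← map_pow, hs, map_one]) (by rw [map_pow]; exact h1) (L s) (hLu s) (hLπ s) hn
    refine commute_of_abelian hV hm rfl ?_ ?_ hp2 A' ((hTb.to_subgroup A).map _) hA'c ?_ ⟨a, ha, rfl⟩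
    · rw [← pow_mul, ← pow_succ, Nat.sub_add_cancel hm, ← map_pow, hs, map_one]
    · rw [map_pow] at hbound
      exact hbound
    · rintro _ ⟨b, hb, rfl⟩
      exact ⟨_, hAn.conj_mem b hb ⟨β s, ⟨s, rfl⟩⟩, rfl⟩
  obtain ⟨a, ha, ea⟩ := key s₁ m₁ hm₁ hs₁ hn₁
  obtain ⟨b, hb, eb⟩ := key s₂ m₂ hm₂ hs₂ hn₂
  refine hne ?_
  rw [← ea, ← eb]
  exact congrArg Subtype.val (congrArg Subtype.val (hAc.is_comm.comm ⟨a, ha⟩ ⟨b, hb⟩))

end Cfsg.Agent.PLengthExp
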