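import Cfsg.Agent.Lib.PLengthExp.Core
import Cfsg.Agent.Lib.HallHigman.Linear
import Cfsg.Agent.Lib.HallHigmanCritical.TheoremB

/-!
Consequences for `p`-solvable groups (`p` odd): the group form of the commutation statement, the dictionary
between a self-centralising elementary abelian normal subgroup and a faithful representation, and the
resulting drop of the exponent.
-/

set_option autoImplicit false
set_option linter.style.haveILetI false

namespace Cfsg.Agent.PLengthExp

open Finset
open scoped commutatorElement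

variable {p : ℕ} [Fact p.Prime]

/-- A `p`-element moved nothing on the `p'`-core: some `T`-invariant Sylow subgroup of it is moved. -/
theorem exists_invariant_sylow_moved' {X : Type*} [Group X] [Finite X] (hs : Cfsg.IsPSolvable p X)
    (hcore : Cfsg.pCore p X = ⊥) {T : Subgroup X} (hT : IsPGroup p T) {y : X} (hyT : y ∈ T) (hy1 : y ≠ 1) :
    ∃ (q : ℕ) (R : Subgroup X), q.Prime ∧ q ≠ p ∧ IsPGroup q R ∧ T ≤ Subgroup.normalizer (R : Set X) ∧
      y ∉ Subgroup.centralizer (R : Set X) := by
  set M := Cfsg.pPrimeCore p X with hM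
  have hMc : (Nat.card M).Coprime p := PCore.coprime_card_pPrimeCore
  have hcop : (Nat.card T).Coprime (Nat.card M) := by
    obtain ⟨i, hi⟩ := hT.exists_card_eq
    rw [hi]
    exact hMc.symm.pow_left i
  have hTM : T ≤ Subgroup.normalizer (M : Set X) := by
    rw [Subgroup.normalizer_eq_top]; exact le_top
  have hTs : Group.IsSolvable T := by
    have := hT.isNilpotent
    infer_instance
  by_contra hno
  push Not at hno
  have hyC : y ∈ Subgroup.centralizer (M : Set X) := by
    have hsup : M ≤ Subgroup.centralizer ({y} : Set X) := by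
      set D := M ⊓ Subgroup.centralizer ({y} : Set X) with hD
      suffices h : Nat.card M ∣ Nat.card D from
        (Subgroup.eq_of_le_of_card_ge inf_le_left (Nat.le_of_dvd Nat.card_pos h)).ge.trans inf_le_right
      refine (Nat.dvd_iff_prime_pow_dvd_dvd _ _).2 fun q k hq hqk => ?_
      rcases Nat.eq_zero_or_pos k with rfl | hk
      · simp
      haveI := Fact.mk hq
      have hqp : q ≠ p := fun e => by
        subst e
        exact hq.coprime_iff_not_dvd.1 hMc.symm ((dvd_pow_self q hk.ne').trans hqk)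
      obtain ⟨P, hP⟩ := Coprime.exists_invariant_sylow hTM hcop (Or.inl hTs) q
      set R := (P : Subgroup M).map M.subtype with hR
      have h1 := hno q R hq hqp (P.2.map _) hP
      have hle : R ≤ D := le_inf (Subgroup.map_subtype_le _) fun z hz =>
        Subgroup.mem_centralizer_singleton_iff.2 (Subgroup.mem_centralizer_iff.1 h1 z hz)
      refine dvd_trans ?_ (Subgroup.card_dvd_of_le hle)
      rw [hR, Subgroup.card_map_of_injective M.subtype_injective, P.card_eq_multiplicity]
      exact pow_dvd_pow q ((hq.pow_dvd_iff_le_factorization Nat.card_pos.ne').1 hqk)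
    exact Subgroup.mem_centralizer_iff.2 fun m hm => Subgroup.mem_centralizer_singleton_iff.1 (hsup hm)
  have hyM := PCore.centralizer_pPrimeCore_le hs hcore hyC
  obtain ⟨i, hi⟩ := hT ⟨y, hyT⟩
  have hi' : y ^ p ^ i = 1 := congrArg Subtype.val hi
  refine hy1 (orderOf_eq_one_iff.1 (Nat.eq_one_of_dvd_coprimes (hMc.pow_right i) (M.orderOf_dvd_natCard hyM)
    (orderOf_dvd_of_pow_eq_one hi')))

/-- In a faithful `p`-solvable group with trivial `p`-core, elements `t` of a `p`-subgroup with
`(t - 1) ^ (p ^ n - 1) = 0` have commuting `p ^ (n - 1)`-st powers. -/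
theorem commute_pow_of_nilpotency {K : Type*} [Field K] [IsAlgClosed K] [CharP K p] {W : Type*} [AddCommGroup W]
    [Module K W] [FiniteDimensional K W] {X : Type*} [Group X] [Finite X] (hp2 : p ≠ 2)
    (hs : Cfsg.IsPSolvable p X) (hcore : Cfsg.pCore p X = ⊥) (ψ : X →* Module.End K W)
    (hψ : Function.Injective ψ) {T : Subgroup X} (hT : IsPGroup p T) {n : ℕ} (hn : 1 ≤ n)
    (hpow : ∀ t ∈ T, t ^ p ^ n = 1) (hnil : ∀ t ∈ T, (ψ t - 1) ^ (p ^ n - 1) = 0)
    {t u : X} (ht : t ∈ T) (hu : u ∈ T) : Commute (t ^ p ^ (n - 1)) (u ^ p ^ (n - 1)) := by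
  by_contra hne
  set c := ⁅t ^ p ^ (n - 1), u ^ p ^ (n - 1)⁆ with hc
  have hcT : c ∈ T := by
    rw [hc, commutatorElement_def]
    exact mul_mem (mul_mem (mul_mem (pow_mem ht _) (pow_mem hu _)) (inv_mem (pow_mem ht _))) (inv_mem (pow_mem hu _))
  have hc1 : c ≠ 1 := fun h => hne (commutatorElement_eq_one_iff_mul_comm.1 h)
  obtain ⟨q, R, hq, hqp, hR, hTR, hcR⟩ := exists_invariant_sylow_moved' hs hcore hT hcT hc1
  haveI := Fact.mk hq
  let α : T →* MulAut R := R.normalizerMonoidHom.comp (Subgroup.inclusion hTR)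
  have hα : ∀ (a : T) (g : R), ((α a g : R) : X) = a * g * (a : X)⁻¹ := fun a g => rfl
  have key := commutator_trivial (p := p) hp2 hqp _ (le_refl (Nat.card R + Module.finrank K W)) hR hT α
    (ψ.comp R.subtype) (ψ.comp T.subtype) (fun a g => by
      show ψ a * ψ g = ψ (α a g : R) * ψ a
      rw [hα, ← map_mul, ← map_mul, inv_mul_cancel_right])
    (⟨t, ht⟩ : T) (⟨u, hu⟩ : T) n n hn hn (Subtype.ext (hpow t ht)) (Subtype.ext (hpow u hu))
    (hnil t ht) (hnil u hu)
  refine hcR (Subgroup.mem_centralizer_iff.2 fun g hg => ?_)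
  have h1 : ψ (c * g * c⁻¹) = ψ g := key ⟨g, hg⟩
  exact (mul_inv_eq_iff_eq_mul.1 (hψ h1)).symm

/-- The representation on a self-centralising elementary abelian normal subgroup. -/
theorem exists_linear {G : Type*} [Group G] [Finite G] {V : Subgroup G} [V.Normal]
    (hV : Cfsg.IsElementaryAbelian p V) (hC : Subgroup.centralizer (V : Set G) ≤ V) :
    ∃ (d : ℕ) (ψ : G ⧸ V →* Module.End (AlgebraicClosure (ZMod p)) (Fin d → AlgebraicClosure (ZMod p))),
      Function.Injective ψ ∧
      (∀ (x : G) (k : ℕ), (∀ v ∈ V, (v * x) ^ k = x ^ k) → ∑ i ∈ range k, ψ (x : G ⧸ V) ^ i = 0) ∧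
      ∀ (x : G) (k : ℕ), (∀ v ∈ V, Commute (x ^ k) ((v * x) ^ k)) →
        (ψ (x : G ⧸ V) ^ k - 1) * ∑ i ∈ range k, ψ (x : G ⧸ V) ^ i = 0 := by
  classical
  let _ : CommGroup V := { (inferInstance : Group V) with mul_comm := fun a b => hV.1.is_comm.comm a b }
  have : Module (ZMod p) (Additive V) := AddCommGroup.zmodModule fun v => by
    apply Additive.toMul.injective
    rw [toMul_nsmul, toMul_zero]
    exact Subtype.ext (by rw [SubgroupClass.coe_pow]; exact hV.2 _ (Additive.toMul v).2)
  let act : G →* Module.End (ZMod p) (Additive V) :=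
    { toFun := fun g => (MonoidHom.toAdditive (MulAut.conjNormal g : MulAut V).toMonoidHom).toZModLinearMap p
      map_one' := LinearMap.ext fun v => Additive.toMul.injective (Subtype.ext
        (show (1 : G) * ((Additive.toMul v : V) : G) * (1 : G)⁻¹ = ((Additive.toMul v : V) : G) by simp))
      map_mul' := fun g h => LinearMap.ext fun v => Additive.toMul.injective (Subtype.ext
        (show (g * h) * ((Additive.toMul v : V) : G) * (g * h)⁻¹ =
          g * (h * ((Additive.toMul v : V) : G) * h⁻¹) * g⁻¹ by group)) }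
  have hactv : ∀ (g : G) (v : V), ((Additive.toMul (act g (Additive.ofMul v)) : V) : G) = g * v * g⁻¹ :=
    fun g v => MulAut.conjNormal_apply g v
  have hVk : V ≤ act.ker := fun g hg => LinearMap.ext fun v => Additive.toMul.injective (Subtype.ext (by
    show ((Additive.toMul (act g (Additive.ofMul (Additive.toMul v))) : V) : G) = Additive.toMul v
    rw [hactv, show g * ((Additive.toMul v : V) : G) = (Additive.toMul v : V) * g from
      congrArg Subtype.val (hV.1.is_comm.comm ⟨g, hg⟩ (Additive.toMul v)), mul_inv_cancel_right]))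
  let f : G ⧸ V →* Module.End (ZMod p) (Additive V) := QuotientGroup.lift V act hVk
  have hf : Function.Injective f := by
    refine (injective_iff_map_eq_one f).2 fun g hg => ?_
    induction g using QuotientGroup.induction_on with | H g => ?_
    refine (QuotientGroup.eq_one_iff g).2 (hC (Subgroup.mem_centralizer_iff.2 fun v hv => ?_))
    have h1 : g * v * g⁻¹ = v := by
      have h2 := hactv g ⟨v, hv⟩
      rw [show act g = 1 from hg] at h2
      exact h2.symm
    exact (mul_inv_eq_iff_eq_mul.1 h1).symm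
  obtain ⟨m, ψ, hψ⟩ := HallHigman.exists_extend (ZMod p) (Additive V)
  have hpowv : ∀ (x : G) (v : Additive V) (k : ℕ), (((Additive.toMul v : V) : G) * x) ^ k =
      ((Additive.toMul ((∑ i ∈ range k, act x ^ i) v) : V) : G) * x ^ k := by
    intro x v k
    induction k with
    | zero => simp
    | succ k ih =>
      rw [pow_succ, ih, Finset.sum_range_succ, LinearMap.add_apply, toMul_add, Subgroup.coe_mul, ← map_pow,
        show ((Additive.toMul ((act (x ^ k)) v) : V) : G) = x ^ k * (Additive.toMul v : V) * (x ^ k)⁻¹ from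
          hactv (x ^ k) (Additive.toMul v), pow_succ]
      group
  have e : ∀ (x : G) (i : ℕ), (ψ.toMonoidHom.comp f) (x : G ⧸ V) ^ i = ψ (act x ^ i) := fun x i =>
    (map_pow ψ (act x) i).symm
  refine ⟨m, ψ.toMonoidHom.comp f, hψ.comp hf, fun x k h => ?_, fun x k h => ?_⟩
  · have h0 : ∑ i ∈ range k, act x ^ i = 0 := by
      refine LinearMap.ext fun v => Additive.toMul.injective (Subtype.ext ?_)
      have h1 := h _ (Additive.toMul v).2
      rw [hpowv] at h1
      exact mul_eq_right.1 h1
    rw [Finset.sum_congr rfl fun i _ => e x i, ← map_sum, h0, map_zero]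
  · have h0 : (act x ^ k - 1) * ∑ i ∈ range k, act x ^ i = 0 := by
      refine LinearMap.ext fun v => ?_
      rw [Module.End.mul_apply, LinearMap.sub_apply, Module.End.one_apply, LinearMap.zero_apply, sub_eq_zero]
      set w := (∑ i ∈ range k, act x ^ i) v with hw
      apply Additive.toMul.injective
      apply Subtype.ext
      rw [← map_pow]
      refine (hactv (x ^ k) (Additive.toMul w)).trans ?_
      have h1 := h _ (Additive.toMul v).2
      rw [hpowv, ← hw] at h1
      have h2 : x ^ k * (Additive.toMul w : V) * x ^ k = (Additive.toMul w : V) * x ^ k * x ^ k := by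
        rw [mul_assoc]; exact h1.eq
      rw [mul_right_cancel h2, mul_inv_cancel_right]
    rw [e x k, Finset.sum_congr rfl fun i _ => e x i, ← map_sum, ← map_one ψ, ← map_sub, ← map_mul, h0, map_zero]

/-- A `p`-solvable group with `(x - 1) ^ (2 p ^ (n - 1) - 1) = 0` has `x ^ (p ^ (n - 1)) = 1` (`p` odd). -/
theorem pow_eq_one_of_nilpotency {K : Type*} [Field K] [IsAlgClosed K] [CharP K p] {W : Type*} [AddCommGroup W]
    [Module K W] [FiniteDimensional K W] {X : Type*} [Group X] [Finite X] (hp2 : p ≠ 2)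
    (hs : Cfsg.IsPSolvable p X) (hcore : Cfsg.pCore p X = ⊥) (ψ : X →* Module.End K W)
    (hψ : Function.Injective ψ) {x : X} {n : ℕ} (hn : 1 ≤ n) (hx : x ^ p ^ n = 1)
    (hnil : (ψ x - 1) ^ (2 * p ^ (n - 1) - 1) = 0) : x ^ p ^ (n - 1) = 1 := by
  have hp : p.Prime := Fact.out
  by_contra hne
  have hord : orderOf x = p ^ n := by
    obtain ⟨j, rfl⟩ : ∃ j, n = j + 1 := ⟨n - 1, by omega⟩
    exact orderOf_eq_prime_pow hne hx
  have h3 : 3 ≤ p := by have := hp.two_le; omega
  have hpn : p ^ n = p * p ^ (n - 1) := by rw [← pow_succ', Nat.sub_add_cancel hn]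
  have hpos := Nat.one_le_pow (n - 1) p hp.pos
  have h3' : 3 * p ^ (n - 1) ≤ p * p ^ (n - 1) := Nat.mul_le_mul_right _ h3
  obtain ⟨n₀, -, -, hn₀, hn₀n, -, -, -, -, hle⟩ := HallHigmanCritical.exceptional_of_nilpotent ψ hψ hs hcore hn hord
    (2 * p ^ (n - 1) - 1) hnil (by omega)
  rw [Nat.mul_sub, mul_one, ← pow_add, Nat.sub_add_cancel hn₀n] at hle
  have h4 : p ^ (n - n₀) ≤ p ^ (n - 1) := Nat.pow_le_pow_right hp.pos (by omega)
  omega

end Cfsg.Agent.PLengthExp
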